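import Mathlib.RingTheory.Valuation.LocalSubring
import Mathlib.RingTheory.Polynomial.Basic
import Mathlib.RingTheory.Valuation.ValuationSubring
import Mathlib.RingTheory.PowerSeries.Inverse
import Mathlib.RingTheory.Polynomial.Nilpotent
import Mathlib.RingTheory.PrincipalIdealDomain
import Mathlib.RingTheory.Polynomial.IsIntegral

/-!
# Integrality of the factors of a rank one matrix of polynomials; the case of a base field
-/

set_option autoImplicit false

open Polynomial

namespace Groth.Agent.Sga7.H598.Kron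

/-- The first coefficient of maximal valuation. -/
theorem exists_first_max {K : Type*} [Field K] {Γ : Type*} [LinearOrderedCommGroupWithZero Γ]
    (v : Valuation K Γ) (f : K[X]) :
    ∃ m, (∀ s, v (f.coeff s) ≤ v (f.coeff m)) ∧ ∀ s < m, v (f.coeff s) < v (f.coeff m) := by
  classical
  have h1 : ∃ m, ∀ s, v (f.coeff s) ≤ v (f.coeff m) := by
    obtain ⟨m, -, hm⟩ := Finset.exists_max_image (insert 0 f.support) (fun s => v (f.coeff s))
      ⟨0, Finset.mem_insert_self _ _⟩
    refine ⟨m, fun s => ?_⟩
    by_cases hs : s ∈ f.support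
    · exact hm s (Finset.mem_insert_of_mem hs)
    · rw [notMem_support_iff.mp hs, map_zero]
      exact zero_le
  refine ⟨Nat.find h1, Nat.find_spec h1, fun s hs => lt_of_le_of_ne (Nat.find_spec h1 s) fun e => ?_⟩
  exact Nat.find_min h1 hs fun t => (Nat.find_spec h1 t).trans e.ge

theorem coeff_mem_valuationSubring {K : Type*} [Field K] (V : ValuationSubring K) (f g : K[X])
    (hfg : ∀ m, (f * g).coeff m ∈ V) (hg : 1 ≤ V.valuation (g.coeff 0)) (m : ℕ) : f.coeff m ∈ V := by
  classical
  let v := V.valuation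
  obtain ⟨m0, hm1, hm2⟩ := exists_first_max v f
  obtain ⟨l0, hl1, hl2⟩ := exists_first_max v g
  rw [← V.valuation_le_one_iff]
  refine (hm1 m).trans ?_
  by_contra hlt
  rw [not_le] at hlt
  have hg1 : 1 ≤ v (g.coeff l0) := hg.trans (hl1 0)
  have hne : v (f.coeff m0) ≠ 0 := (zero_lt_one.trans hlt).ne'
  have hne' : v (g.coeff l0) ≠ 0 := (zero_lt_one.trans_le hg1).ne'
  have key : v ((f * g).coeff (m0 + l0)) = v (f.coeff m0) * v (g.coeff l0) := by
    rw [coeff_mul, ← map_mul]
    have hmem : (m0, l0) ∈ Finset.antidiagonal (m0 + l0) := by simp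
    rw [← Finset.add_sum_erase _ _ hmem]
    refine Valuation.map_add_eq_of_lt_left _ ?_
    refine Valuation.map_sum_lt _ ?_ fun p hp => ?_
    · rw [map_mul]
      exact mul_ne_zero hne hne'
    · rw [Finset.mem_erase, Finset.mem_antidiagonal] at hp
      obtain ⟨hp1, hp2⟩ := hp
      rw [map_mul, map_mul]
      rcases lt_trichotomy p.1 m0 with h | h | h
      · exact lt_of_le_of_lt (mul_le_mul' le_rfl (hl1 p.2))
          (mul_lt_mul_of_pos_right (hm2 _ h) (zero_lt_iff.mpr hne'))
      · exact absurd (Prod.ext h (by omega)) hp1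
      · exact lt_of_le_of_lt (mul_le_mul' (hm1 p.1) le_rfl)
          (mul_lt_mul_of_pos_left (hl2 _ (by omega)) (zero_lt_iff.mpr hne))
  have h2 := (V.valuation_le_one_iff _).mpr (hfg (m0 + l0))
  change v _ ≤ 1 at h2
  rw [key] at h2
  exact absurd h2 (not_le.mpr (lt_of_lt_of_le hlt (le_mul_of_one_le_right zero_le hg1)))

/-- A ring integrally closed in a field contains the coefficients of the factors of a rank one matrix of
polynomials, provided that the matrix and the constant coefficients are over this ring. -/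
theorem coeff_mem {K : Type*} [Field K] (D : Subring K) [IsIntegrallyClosedIn D K] {ι : Type*} (f g : ι → K[X])
    (s : Finset ι) (hfg : ∀ i j m, (f i * g j).coeff m ∈ D) (hf0 : ∀ i, (f i).coeff 0 ∈ D) (h1 : ∑ i ∈ s, (f i).coeff 0 * (g i).coeff 0 = 1) (i : ι) (m : ℕ) :
    (f i).coeff m ∈ D := by
  by_contra hc
  obtain ⟨V, hV, hcV⟩ := Subring.exists_le_valuationSubring_of_isIntegrallyClosedIn hc
  -- some product of constant coefficients is a unit of `V`
  have h2 : ∃ j, 1 ≤ V.valuation ((g j).coeff 0) := by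
    by_contra hne
    push Not at hne
    have : V.valuation (∑ i ∈ s, (f i).coeff 0 * (g i).coeff 0) < 1 := by
      refine Valuation.map_sum_lt _ one_ne_zero fun i _ => ?_
      rw [map_mul]
      exact lt_of_le_of_lt (mul_le_mul' ((V.valuation_le_one_iff _).mpr (hV (hf0 i))) le_rfl)
        (by rw [one_mul]; exact hne i)
    rw [h1, map_one] at this
    exact lt_irrefl _ this
  obtain ⟨j, hj⟩ := h2
  exact hcV (coeff_mem_valuationSubring V (f i) (g j) (fun m => hV (hfg i j m)) hj m)

/-- The same statement with integral elements. -/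
theorem isIntegral_coeff {A K : Type*} [CommRing A] [Field K] [Algebra A K] {ι : Type*} (f g : ι → K[X])
    (s : Finset ι) (hfg : ∀ i j m, IsIntegral A ((f i * g j).coeff m))
    (hf0 : ∀ i, IsIntegral A ((f i).coeff 0))
    (h1 : ∑ i ∈ s, (f i).coeff 0 * (g i).coeff 0 = 1) (i : ι) (m : ℕ) :
    IsIntegral A ((f i).coeff m) := by
  have hD : IsIntegrallyClosedIn (integralClosure A K).toSubring K :=
    inferInstanceAs (IsIntegrallyClosedIn (integralClosure A K) K)
  exact coeff_mem (integralClosure A K).toSubring f g s hfg hf0 h1 i m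

section FieldCase

theorem eq_zero_of_mul_eq_zero {D : Type*} [CommRing D] (p g : D[X]) (hg : IsUnit (g.coeff 0))
    (h : p * g = 0) : p = 0 := by
  apply Polynomial.coe_injective D
  have hu : IsUnit (g : PowerSeries D) := by
    rw [PowerSeries.isUnit_iff_constantCoeff, Polynomial.constantCoeff_coe]
    exact hg
  have h2 : (p : PowerSeries D) * (g : PowerSeries D) = 0 := by
    rw [← Polynomial.coe_mul, h, Polynomial.coe_zero]
  rw [Polynomial.coe_zero]
  exact (hu.mul_left_eq_zero).mp h2

theorem eq_C_of_isUnit {D : Type*} [CommRing D] [IsReduced D] (h : D[X]) (hu : IsUnit h) :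
    h = C (h.coeff 0) := by
  ext n
  rw [coeff_C]
  split_ifs with hn
  · rw [hn]
  · exact ((Polynomial.isUnit_iff_coeff_isUnit_isNilpotent.mp hu).2 n hn).eq_zero

/-- The factors of a rank one matrix of polynomials over a field, when the constant coefficients are in the field. -/
theorem field_case {F D : Type*} [Field F] [CommRing D] [Algebra F D] [IsReduced D] {ι : Type*} (s : Finset ι)
    (f g : ι → D[X]) (m : ι → ι → F[X]) (hm : ∀ i j, f i * g j = (m i j).map (algebraMap F D))
    (f0 g0 : ι → F) (hf0 : ∀ i, (f i).coeff 0 = algebraMap F D (f0 i))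
    (hg0 : ∀ i, (g i).coeff 0 = algebraMap F D (g0 i)) (h1 : ∑ i ∈ s, f i * g i = 1) :
    ∀ i ∈ s, ∃ f' : F[X], f i = f'.map (algebraMap F D) := by
  classical
  rcases subsingleton_or_nontrivial D with hD | hD
  · exact fun i _ => ⟨0, Subsingleton.elim _ _⟩
  have hinj : Function.Injective (algebraMap F D) := (algebraMap F D).injective
  have h2 : ∑ i ∈ s, f0 i * g0 i = 1 := by
    apply hinj
    have := congrArg (fun p : D[X] => p.coeff 0) h1
    simp only [finsetSum_coeff, mul_coeff_zero, coeff_one_zero, hf0, hg0] at this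
    rw [map_sum, map_one, ← this]
    exact Finset.sum_congr rfl fun i _ => by rw [map_mul]
  obtain ⟨j, hj, hj0⟩ := Finset.exists_ne_zero_of_sum_ne_zero (by rw [h2]; exact one_ne_zero :
    ∑ i ∈ s, f0 i * g0 i ≠ 0)
  have hgj : g0 j ≠ 0 := right_ne_zero_of_mul hj0
  have hgu : IsUnit ((g j).coeff 0) := by rw [hg0]; exact (isUnit_iff_ne_zero.mpr hgj).map _
  -- a generator of the ideal of the entries of the column
  obtain ⟨q, hq⟩ := (IsPrincipalIdealRing.principal (Ideal.span ((fun i => m i j) '' (s : Set ι)))).principal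
  have hmem : ∀ i ∈ s, ∃ b, m i j = q * b := by
    intro i hi
    have : m i j ∈ Ideal.span ((fun i => m i j) '' (s : Set ι)) := Ideal.subset_span ⟨i, hi, rfl⟩
    rw [hq] at this
    obtain ⟨b, hb⟩ := Submodule.mem_span_singleton.mp this
    exact ⟨b, by rw [← hb, smul_eq_mul, mul_comm]⟩
  have hqm : q ∈ Ideal.span ((fun i => m i j) '' (s : Set ι)) := by
    rw [hq]; exact Submodule.mem_span_singleton_self q
  rw [Ideal.span, Finsupp.mem_span_image_iff_linearCombination] at hqm
  obtain ⟨a, has, ha⟩ := hqm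
  rw [Finsupp.linearCombination_apply, Finsupp.sum_of_support_subset _
    (Finset.coe_subset.mp ((Finsupp.mem_supported _ _).mp has)) _ (by simp)] at ha
  choose! b hb using hmem
  let φ : F[X] →+* D[X] := mapRingHom (algebraMap F D)
  let h : D[X] := ∑ i ∈ s, φ (a i) * f i
  have hh : h * g j = φ q := by
    rw [← ha, map_sum, Finset.sum_mul]
    refine Finset.sum_congr rfl fun i _ => ?_
    rw [smul_eq_mul, map_mul, mul_assoc, hm]
    rfl
  have hfb : ∀ i ∈ s, f i = h * φ (b i) := by
    intro i hi
    rw [← sub_eq_zero]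
    apply eq_zero_of_mul_eq_zero _ (g j) hgu
    rw [sub_mul, hm i j, hb i hi, mul_right_comm, hh, Polynomial.map_mul]
    exact sub_self _
  have hu : IsUnit h := by
    refine IsUnit.of_mul_eq_one (∑ i ∈ s, φ (b i) * g i) ?_
    rw [← h1, Finset.mul_sum]
    refine Finset.sum_congr rfl fun i hi => ?_
    rw [← mul_assoc, ← hfb i hi]
  have hC := eq_C_of_isUnit h hu
  have hc : h.coeff 0 = algebraMap F D (∑ i ∈ s, (a i).coeff 0 * f0 i) := by
    simp only [h, finsetSum_coeff, mul_coeff_zero, map_sum, map_mul, hf0]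
    refine Finset.sum_congr rfl fun i _ => ?_
    simp [φ]
  intro i hi
  refine ⟨C (∑ i ∈ s, (a i).coeff 0 * f0 i) * b i, ?_⟩
  rw [hfb i hi, hC, hc, Polynomial.map_mul, Polynomial.map_C]
  rfl

end FieldCase

end Groth.Agent.Sga7.H598.Kron
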