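import Groth.Agent.Sga7.H598.SNDef
import Groth.Agent.Sga7.H598.Kron
import Mathlib.RingTheory.LocalRing.ResidueField.Fiber
import Mathlib.RingTheory.LocalRing.Module
import Mathlib.RingTheory.Support
import Mathlib.RingTheory.Ideal.MinimalPrime.Localization
import Mathlib.RingTheory.Localization.Ideal

/-!
# The conductor argument for seminormal rings
-/

set_option autoImplicit false

universe u

open Polynomial TensorProduct

namespace Groth.Agent.Sga7.H598.Conduct

open Groth.Agent.Sga7.H598.SNDef Groth.Agent.Sga7.H598.Kron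

section Prim

variable {R : Type*} [CommRing R]

theorem exists_mul_mem_of_fg {I p : Ideal R} [hp : p.IsPrime] (hfg : p.FG)
    (h : ∀ x ∈ p, ∃ t ∉ p, t * x ∈ I) : ∃ t ∉ p, ∀ x ∈ p, t * x ∈ I := by
  classical
  obtain ⟨S, hS⟩ := hfg
  choose! t ht1 ht2 using h
  refine ⟨∏ x ∈ S, t x, ?_, fun x hx => ?_⟩
  · rw [hp.prod_mem_iff]
    rintro ⟨x, hx, hxt⟩
    exact ht1 x (hS ▸ Submodule.subset_span hx) hxt
  · rw [← hS] at hx
    induction hx using Submodule.span_induction with
    | mem y hy =>
      rw [← Finset.prod_erase_mul _ _ hy, mul_assoc]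
      exact I.mul_mem_left _ (ht2 y (hS ▸ Submodule.subset_span hy))
    | zero => rw [mul_zero]; exact I.zero_mem
    | add y z _ _ hy hz => rw [mul_add]; exact I.add_mem hy hz
    | smul a y _ hy => rw [smul_eq_mul, mul_left_comm]; exact I.mul_mem_left _ hy

theorem exists_mul_mem_of_minimal {I p : Ideal R} (hI : I.IsRadical) (hp : p ∈ I.minimalPrimes) :
    ∀ x ∈ p, ∃ t ∉ p, t * x ∈ I := by
  intro x hx
  have : p.IsPrime := hp.isPrime
  have h1 : algebraMap R (Localization.AtPrime p) x ∈ (I.map (algebraMap R (Localization.AtPrime p))).radical := by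
    rw [IsLocalization.AtPrime.radical_map_of_mem_minimalPrimes _ p I hp]
    exact Ideal.mem_map_of_mem _ hx
  obtain ⟨n, hn⟩ := h1
  rw [← map_pow, IsLocalization.algebraMap_mem_map_algebraMap_iff p.primeCompl] at hn
  obtain ⟨t, ht, htx⟩ := hn
  refine ⟨t, ht, hI ⟨n + 1, ?_⟩⟩
  rw [show (t * x) ^ (n + 1) = t ^ n * x * (t * x ^ n) by ring]
  exact I.mul_mem_left _ htx

end Prim

section Cond

variable {R B : Type*} [CommRing R] [CommRing B] [Algebra R B]

variable (R B) in
/-- The conductor of `R → B`, as an ideal of `B`. -/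
def cond : Ideal B where
  carrier := {s | ∀ t, s * t ∈ (algebraMap R B).range}
  zero_mem' := fun t => by rw [zero_mul]; exact zero_mem _
  add_mem' := fun {x y} hx hy t => by rw [add_mul]; exact add_mem (hx t) (hy t)
  smul_mem' := fun c x hx t => by
    rw [smul_eq_mul, mul_comm c x, mul_assoc]
    exact hx (c * t)

theorem mem_cond {s : B} : s ∈ cond R B ↔ ∀ t, s * t ∈ (algebraMap R B).range := Iff.rfl

theorem exists_of_mem_cond {s : B} (hs : s ∈ cond R B) :
    ∃ r ∈ (cond R B).comap (algebraMap R B), algebraMap R B r = s := by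
  obtain ⟨r, hr⟩ := hs 1
  rw [mul_one] at hr
  exact ⟨r, by rw [Ideal.mem_comap, hr]; exact hs, hr⟩

theorem isRadical_cond [IsReduced B] (hinj : Function.Injective (algebraMap R B)) (hR : SN R) :
    (cond R B).IsRadical := by
  rw [Ideal.isRadical_iff_pow_one_lt 2 one_lt_two]
  intro s hs t
  refine hR.mem_range hinj ?_ ?_
  · rw [mul_pow]; exact hs _
  · rw [show (s * t) ^ 3 = s ^ 2 * (s * t ^ 3) by ring]; exact hs _

attribute [local instance] Algebra.TensorProduct.rightAlgebra in
theorem exists_of_tmul_eq_zero (p : Ideal R) [p.IsPrime] (b : B) (hb : (1 : p.ResidueField) ⊗ₜ[R] b = 0) :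
    ∃ t ∉ p, t • b ∈ p.map (algebraMap R B) := by
  have h1 := congrArg (Ideal.Fiber.algEquivAux₁ (S := B) p) hb
  have h2 : (1 : p.ResidueField) ⊗ₜ[R] b = algebraMap B (p.Fiber B) b := rfl
  rw [h2, AlgEquiv.commutes, map_zero] at h1
  rw [IsScalarTower.algebraMap_apply B (Localization (Algebra.algebraMapSubmonoid B p.primeCompl)) _,
    Ideal.Quotient.algebraMap_eq, Ideal.Quotient.eq_zero_iff_mem,
    IsLocalization.algebraMap_mem_map_algebraMap_iff (Algebra.algebraMapSubmonoid B p.primeCompl)] at h1
  obtain ⟨_, ⟨t, ht, rfl⟩, h⟩ := h1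
  exact ⟨t, ht, by rw [Algebra.smul_def]; exact h⟩

/-- The fibre over a minimal prime of the conductor is reduced. -/
theorem isReduced_fiber [IsNoetherianRing R] [IsReduced B] (hinj : Function.Injective (algebraMap R B))
    (hR : SN R) (p : Ideal R) (hp : p ∈ ((cond R B).comap (algebraMap R B)).minimalPrimes) [p.IsPrime] :
    IsReduced (p.ResidueField ⊗[R] B) := by
  have hrad := isRadical_cond hinj hR
  obtain ⟨t', ht', ht'I⟩ := exists_mul_mem_of_fg (IsNoetherian.noetherian p)
    (exists_mul_mem_of_minimal (hrad.comap _) hp)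
  -- elements of `p B` multiplied by `t'` are in the conductor
  have hpB : ∀ x ∈ p.map (algebraMap R B), algebraMap R B t' * x ∈ cond R B := by
    intro x hx
    rw [Ideal.map] at hx
    induction hx using Submodule.span_induction with
    | mem y hy =>
      obtain ⟨r, hr, rfl⟩ := hy
      rw [← map_mul]
      exact ht'I r hr
    | zero => rw [mul_zero]; exact zero_mem _
    | add y z _ _ hy hz => rw [mul_add]; exact add_mem hy hz
    | smul a y _ hy => rw [smul_eq_mul, mul_left_comm]; exact Ideal.mul_mem_left _ _ hy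
  -- scalars outside `p` are invertible on the fibre
  have hinv : ∀ r ∉ p, ∀ x : p.ResidueField ⊗[R] B, r • x = 0 → x = 0 := by
    intro r hr x hx
    have hr' : algebraMap R p.ResidueField r ≠ 0 := by
      rwa [Ne, Ideal.algebraMap_residueField_eq_zero]
    rw [← algebraMap_smul p.ResidueField r x] at hx
    exact (smul_eq_zero.mp hx).resolve_left hr'
  rw [isReduced_iff_pow_one_lt 2 one_lt_two]
  intro x hx
  obtain ⟨r, hr, s, hs⟩ := Ideal.Fiber.exists_smul_eq_one_tmul p x
  apply hinv r hr
  rw [hs]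
  have h1 : (1 : p.ResidueField) ⊗ₜ[R] (s ^ 2) = 0 := by
    have : (1 : p.ResidueField) ⊗ₜ[R] (s ^ 2) = ((1 : p.ResidueField) ⊗ₜ[R] s) ^ 2 := by
      rw [Algebra.TensorProduct.tmul_pow, one_pow]
    rw [this, ← hs, smul_pow, hx, smul_zero]
  obtain ⟨t, ht, htm⟩ := exists_of_tmul_eq_zero p _ h1
  have h2 : algebraMap R B (t' * t) * s ∈ cond R B := by
    refine hrad ⟨2, ?_⟩
    have e : (algebraMap R B (t' * t) * s) ^ 2 = algebraMap R B (t' * t) * (algebraMap R B t' * t • s ^ 2) := by
      rw [Algebra.smul_def, map_mul]; ring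
    rw [e]
    exact Ideal.mul_mem_left _ _ (hpB _ htm)
  obtain ⟨r', hr', hr's⟩ := exists_of_mem_cond h2
  have h3 : (t' * t) • ((1 : p.ResidueField) ⊗ₜ[R] s) = 0 := by
    rw [← TensorProduct.tmul_smul, Algebra.smul_def, ← hr's, Algebra.algebraMap_eq_smul_one,
      ← TensorProduct.smul_tmul, Algebra.smul_def, mul_one,
      (Ideal.algebraMap_residueField_eq_zero).mpr (hp.le hr'), TensorProduct.zero_tmul]
  exact hinv _ (Ideal.IsPrime.mul_notMem ‹_› ht' ht) _ h3

end Cond

section Main

variable {R B : Type*} [CommRing R] [CommRing B] [Algebra R B]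

/-- If all elements of `B` come from `κ(p)` in the fibre over `p` then `p` is not in the support of `B / R`. -/
theorem subsingleton_fiber_quot (p : Ideal R) [p.IsPrime]
    (h : ∀ b : B, ∃ c : p.ResidueField, (1 : p.ResidueField) ⊗ₜ[R] b = c ⊗ₜ[R] (1 : B)) :
    Subsingleton (p.ResidueField ⊗[R] (B ⧸ LinearMap.range (Algebra.linearMap R B))) := by
  refine subsingleton_of_forall_eq 0 fun x => ?_
  induction x using TensorProduct.induction_on with
  | zero => rfl
  | tmul x y =>
    obtain ⟨b, rfl⟩ := Submodule.mkQ_surjective _ y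
    obtain ⟨c, hc⟩ := h b
    have h1 : x ⊗ₜ[R] b = (x * c) ⊗ₜ[R] (1 : B) := by
      have := congrArg (fun z => (x ⊗ₜ[R] (1 : B)) * z) hc
      simpa [Algebra.TensorProduct.tmul_mul_tmul] using this
    have h2 := congrArg (LinearMap.lTensor p.ResidueField
      (Submodule.mkQ (LinearMap.range (Algebra.linearMap R B)))) h1
    rw [LinearMap.lTensor_tmul, LinearMap.lTensor_tmul] at h2
    rw [h2]
    have h3 : Submodule.mkQ (LinearMap.range (Algebra.linearMap R B)) (1 : B) = 0 := by
      rw [Submodule.mkQ_apply, Submodule.Quotient.mk_eq_zero]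
      exact ⟨1, by simp⟩
    rw [h3, TensorProduct.tmul_zero]
  | add x y hx hy => rw [hx, hy, add_zero]

/-- The coefficients of two families of polynomials. -/
def coeffs {ι : Type*} (s : Finset ι) (f g : ι → B[X]) : Set B :=
  {c | ∃ i ∈ s, ∃ n, c = (f i).coeff n ∨ c = (g i).coeff n}

theorem surjective_of_finite [IsNoetherianRing R] [Module.Finite R B] [IsReduced B]
    (hinj : Function.Injective (algebraMap R B)) (hR : SN R) {ι : Type*} (s : Finset ι)
    (f g : ι → B[X]) (m : ι → ι → R[X]) (hm : ∀ i j, f i * g j = (m i j).map (algebraMap R B))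
    (f0 g0 : ι → R) (hf0 : ∀ i, (f i).coeff 0 = algebraMap R B (f0 i))
    (hg0 : ∀ i, (g i).coeff 0 = algebraMap R B (g0 i)) (h1 : ∑ i ∈ s, f i * g i = 1)
    (hgen : Algebra.adjoin R (coeffs s f g) = ⊤) : Function.Surjective (algebraMap R B) := by
  by_contra hns
  -- the conductor is a proper ideal
  have hne : (cond R B).comap (algebraMap R B) ≠ ⊤ := by
    intro htop
    apply hns
    intro b
    have h2 : (1 : R) ∈ (cond R B).comap (algebraMap R B) := htop ▸ Submodule.mem_top
    rw [Ideal.mem_comap, map_one] at h2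
    obtain ⟨r, hr⟩ := h2 b
    exact ⟨r, by rw [hr, one_mul]⟩
  obtain ⟨p, hp⟩ := Ideal.nonempty_minimalPrimes hne
  have hpp : p.IsPrime := hp.isPrime
  have hred := isReduced_fiber hinj hR p hp
  -- the polynomials in the fibre
  let D := p.ResidueField ⊗[R] B
  let ψ : B →+* D := (Algebra.TensorProduct.includeRight : B →ₐ[R] D).toRingHom
  have hψ : ψ.comp (algebraMap R B) = (algebraMap p.ResidueField D).comp (algebraMap R p.ResidueField) := by
    ext r
    change ψ (algebraMap R B r) = algebraMap p.ResidueField D (algebraMap R p.ResidueField r)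
    rw [← IsScalarTower.algebraMap_apply]
    exact (Algebra.TensorProduct.includeRight : B →ₐ[R] D).commutes r
  have key : ∀ (f g : ι → B[X]) (m : ι → ι → R[X]) (f0 g0 : ι → R)
      (_ : ∀ i j, f i * g j = (m i j).map (algebraMap R B))
      (_ : ∀ i, (f i).coeff 0 = algebraMap R B (f0 i)) (_ : ∀ i, (g i).coeff 0 = algebraMap R B (g0 i))
      (_ : ∑ i ∈ s, f i * g i = 1), ∀ i ∈ s, ∃ f' : p.ResidueField[X],
        (f i).map ψ = f'.map (algebraMap p.ResidueField D) := by
    intro f g m f0 g0 hm hf0 hg0 h1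
    refine field_case s (fun i => (f i).map ψ) (fun i => (g i).map ψ)
      (fun i j => (m i j).map (algebraMap R p.ResidueField)) ?_ (fun i => algebraMap R p.ResidueField (f0 i))
      (fun i => algebraMap R p.ResidueField (g0 i)) ?_ ?_ ?_
    · intro i j
      rw [← Polynomial.map_mul, hm, Polynomial.map_map, Polynomial.map_map, hψ]
    · intro i
      rw [coeff_map, hf0]
      exact RingHom.congr_fun hψ _
    · intro i
      rw [coeff_map, hg0]
      exact RingHom.congr_fun hψ _
    · simp_rw [← Polynomial.map_mul]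
      rw [← Polynomial.map_sum, h1, Polynomial.map_one]
  have hf := key f g m f0 g0 hm hf0 hg0 h1
  have hg := key g f (fun i j => m j i) g0 f0 (fun i j => by rw [mul_comm, hm]) hg0 hf0 (by
    rw [← h1]; exact Finset.sum_congr rfl fun i _ => mul_comm _ _)
  -- so all elements of `B` come from the residue field
  have hall : ∀ b : B, ∃ c : p.ResidueField, (1 : p.ResidueField) ⊗ₜ[R] b = c ⊗ₜ[R] (1 : B) := by
    intro b
    let T : Subalgebra R B := ((Algebra.ofId p.ResidueField D).range.restrictScalars R).comap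
      (Algebra.TensorProduct.includeRight : B →ₐ[R] D)
    have hT : ⊤ ≤ T := by
      rw [← hgen, Algebra.adjoin_le_iff]
      rintro c ⟨i, hi, n, hc | hc⟩
      · obtain ⟨f', hf'⟩ := hf i hi
        refine ⟨f'.coeff n, ?_⟩
        have := congrArg (fun q : D[X] => q.coeff n) hf'
        simp only [coeff_map] at this
        rw [hc]
        exact this.symm
      · obtain ⟨g', hg'⟩ := hg i hi
        refine ⟨g'.coeff n, ?_⟩
        have := congrArg (fun q : D[X] => q.coeff n) hg'
        simp only [coeff_map] at this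
        rw [hc]
        exact this.symm
    obtain ⟨c, hc⟩ := hT (Algebra.mem_top : b ∈ ⊤)
    exact ⟨c, hc.symm⟩
  have hsub := subsingleton_fiber_quot p hall
  -- contradiction with the support
  have hsup : (⟨p, hpp⟩ : PrimeSpectrum R) ∈ Module.support R (B ⧸ LinearMap.range (Algebra.linearMap R B)) := by
    rw [Module.mem_support_iff_of_finite]
    intro r hr
    refine hp.le ?_
    rw [Ideal.mem_comap, mem_cond]
    intro t
    rw [Module.mem_annihilator] at hr
    have h2 := hr (Submodule.mkQ _ t)
    rw [← map_smul, Submodule.mkQ_apply, Submodule.Quotient.mk_eq_zero] at h2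
    obtain ⟨c, hc⟩ := h2
    exact ⟨c, by rw [← Algebra.smul_def, ← hc]; rfl⟩
  rw [Module.mem_support_iff_nontrivial_residueField_tensorProduct] at hsup
  exact not_nontrivial _ hsup

theorem finite_coeffs {ι : Type*} (s : Finset ι) (f g : ι → B[X]) : (coeffs s f g).Finite := by
  classical
  have h : ∀ q : B[X], (Set.range q.coeff).Finite := by
    intro q
    refine (q.coeffs.finite_toSet.insert 0).subset ?_
    rintro _ ⟨n, rfl⟩
    by_cases hn : q.coeff n = 0
    · exact Or.inl hn
    · exact Or.inr (Polynomial.coeff_mem_coeffs hn)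
  refine (s.finite_toSet.biUnion fun i _ => (h (f i)).union (h (g i))).subset ?_
  rintro c ⟨i, hi, n, hc⟩
  rw [Set.mem_iUnion₂]
  exact ⟨i, hi, hc.imp (fun h => ⟨n, h.symm⟩) (fun h => ⟨n, h.symm⟩)⟩

/-- The same statement for arbitrary (reduced) overrings when the coefficients are integral. -/
theorem coeff_mem_range [IsNoetherianRing R] [IsReduced B]
    (hinj : Function.Injective (algebraMap R B)) (hR : SN R) {ι : Type*} [Fintype ι]
    (f g : ι → B[X]) (m : ι → ι → R[X]) (hm : ∀ i j, f i * g j = (m i j).map (algebraMap R B))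
    (f0 g0 : ι → R) (hf0 : ∀ i, (f i).coeff 0 = algebraMap R B (f0 i))
    (hg0 : ∀ i, (g i).coeff 0 = algebraMap R B (g0 i)) (h1 : ∑ i, f i * g i = 1)
    (hfi : ∀ i n, IsIntegral R ((f i).coeff n)) (hgi : ∀ i n, IsIntegral R ((g i).coeff n)) :
    ∀ i n, (f i).coeff n ∈ (algebraMap R B).range ∧ (g i).coeff n ∈ (algebraMap R B).range := by
  classical
  let C := Algebra.adjoin R (coeffs Finset.univ f g)
  have hC : Module.Finite R C := Algebra.finite_adjoin_of_finite_of_isIntegral (finite_coeffs _ f g) (by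
    rintro c ⟨i, -, n, hc | hc⟩
    · rw [hc]; exact hfi i n
    · rw [hc]; exact hgi i n)
  have hCinj : Function.Injective (algebraMap C B) := Subtype.val_injective
  have hRC : Function.Injective (algebraMap R C) := by
    have h := hinj
    rw [IsScalarTower.algebraMap_eq R C B, RingHom.coe_comp] at h
    exact Function.Injective.of_comp h
  have hCred : IsReduced C := isReduced_of_injective _ hCinj
  have hfC : ∀ i, ∃ F : C[X], F.map (algebraMap C B) = f i := by
    intro i
    rw [← Polynomial.mem_lifts, Polynomial.lifts_iff_coeff_lifts]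
    exact fun n => ⟨⟨(f i).coeff n, Algebra.subset_adjoin ⟨i, Finset.mem_univ i, n, Or.inl rfl⟩⟩, rfl⟩
  have hgC : ∀ i, ∃ G : C[X], G.map (algebraMap C B) = g i := by
    intro i
    rw [← Polynomial.mem_lifts, Polynomial.lifts_iff_coeff_lifts]
    exact fun n => ⟨⟨(g i).coeff n, Algebra.subset_adjoin ⟨i, Finset.mem_univ i, n, Or.inr rfl⟩⟩, rfl⟩
  choose F hF using hfC
  choose G hG using hgC
  have hmapinj : Function.Injective (Polynomial.map (algebraMap C B)) := Polynomial.map_injective _ hCinj
  have hsurj : Function.Surjective (algebraMap R C) := by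
    refine surjective_of_finite hRC hR Finset.univ F G m ?_ f0 g0 ?_ ?_ ?_ ?_
    · intro i j
      apply hmapinj
      rw [Polynomial.map_mul, hF, hG, hm, Polynomial.map_map, ← IsScalarTower.algebraMap_eq]
    · intro i
      apply hCinj
      rw [← coeff_map, hF, hf0, ← IsScalarTower.algebraMap_apply]
    · intro i
      apply hCinj
      rw [← coeff_map, hG, hg0, ← IsScalarTower.algebraMap_apply]
    · apply hmapinj
      rw [Polynomial.map_sum, Polynomial.map_one, ← h1]
      exact Finset.sum_congr rfl fun i _ => by rw [Polynomial.map_mul, hF, hG]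
    · have hinj' : Function.Injective (Subalgebra.map C.val) :=
        Subalgebra.map_injective Subtype.val_injective
      apply hinj'
      rw [AlgHom.map_adjoin, Algebra.map_top, Subalgebra.range_val]
      change Algebra.adjoin R _ = Algebra.adjoin R _
      congr 1
      ext c
      constructor
      · rintro ⟨c', ⟨i, hi, n, hc | hc⟩, rfl⟩
        · exact ⟨i, hi, n, Or.inl (by rw [← hF i, coeff_map, hc]; rfl)⟩
        · exact ⟨i, hi, n, Or.inr (by rw [← hG i, coeff_map, hc]; rfl)⟩
      · rintro ⟨i, hi, n, hc | hc⟩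
        · exact ⟨(F i).coeff n, ⟨i, hi, n, Or.inl rfl⟩, by rw [hc, ← hF i, coeff_map]; rfl⟩
        · exact ⟨(G i).coeff n, ⟨i, hi, n, Or.inr rfl⟩, by rw [hc, ← hG i, coeff_map]; rfl⟩
  intro i n
  constructor
  · obtain ⟨r, hr⟩ := hsurj ((F i).coeff n)
    exact ⟨r, by rw [IsScalarTower.algebraMap_apply R C B, hr, ← coeff_map, hF]⟩
  · obtain ⟨r, hr⟩ := hsurj ((G i).coeff n)
    exact ⟨r, by rw [IsScalarTower.algebraMap_apply R C B, hr, ← coeff_map, hG]⟩

end Main

end Groth.Agent.Sga7.H598.Conduct
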