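import Groth.Agent.Sga7.H598.LineDesc
import Groth.Agent.Sga3B.GaPts

/-!
# `Y ×_S G_a` is a relative affine line over `Y`
-/

set_option autoImplicit false
universe u

open CategoryTheory MonoidalCategory CartesianMonoidalCategory MonObj GrpObj AlgebraicGeometry Limits
open Polynomial Opposite TopologicalSpace

namespace Groth.Agent.Sga7.H598.GaLine

open Groth.Agent.Sga3B.DSPts Groth.Agent.Sga3B.GaPts Groth.Agent.Fdesc.LocGen
open Groth.Agent.Sga7.H598.LineDesc

attribute [local instance 10] ULift.algebra'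

section Aff

variable {S : Scheme.{u}} {R : Type u} [CommRing R] (s : Spec (CommRingCat.of R) ⟶ S)

/-- `Spec B` over `S` -/
noncomputable abbrev tB (B : Type u) [CommRing B] [Algebra R B] : Over S :=
  Over.mk (Spec.map (CommRingCat.ofHom (algebraMap R B)) ≫ s)

/-- functions -/
noncomputable def fnOf {B : Type u} [CommRing B] [Algebra R B] (x : B) : Γ((tB s B).left, ⊤) :=
  (Scheme.ΓSpecIso (CommRingCat.of B)).inv x

lemma isPushout_gen (R : Type u) [CommRing R] (v : ULift.{u} ℤ →+* R) :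
    IsPushout (CommRingCat.ofHom (algebraMap (ULift.{u} ℤ) SymZ.{u})) (CommRingCat.ofHom v)
      (CommRingCat.ofHom (gaHom (X : R[X]))) (CommRingCat.ofHom (algebraMap R R[X])) := by
  refine ⟨⟨?_⟩, ⟨PushoutCocone.IsColimit.mk _
    (fun t => CommRingCat.ofHom (Polynomial.eval₂RingHom t.inr.hom (t.inl.hom gen))) ?_ ?_ ?_⟩⟩
  · rw [← CommRingCat.ofHom_comp, ← CommRingCat.ofHom_comp]
    congr 1
    exact uliftInt_ringHom_ext _ _
  · intro t
    refine CommRingCat.hom_ext ?_
    change (Polynomial.eval₂RingHom t.inr.hom (t.inl.hom gen)).comp (gaHom X) = t.inl.hom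
    apply Groth.Agent.Sga3B.GaPts.ringHom_ext
    simp
  · intro t
    refine CommRingCat.hom_ext ?_
    change (Polynomial.eval₂RingHom t.inr.hom (t.inl.hom gen)).comp (algebraMap R R[X]) = t.inr.hom
    ext r
    simp
  · intro t m h1 h2
    refine CommRingCat.hom_ext ?_
    change m.hom = Polynomial.eval₂RingHom t.inr.hom (t.inl.hom gen)
    apply Polynomial.ringHom_ext
    · intro r
      have := congrArg (fun k => CommRingCat.Hom.hom k r) h2
      simpa using this
    · have := congrArg (fun k => CommRingCat.Hom.hom k gen) h1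
      simpa using this

lemma gaPt_left_fst {B : Type u} [CommRing B] [Algebra R B] (x : B) :
    (gaPt (tB s B) (fnOf s x)).left ≫ pullback.fst _ _ = Spec.map (CommRingCat.ofHom (gaHom x)) := by
  rw [gaPt_fst]
  have h : gaHom (fnOf s x) = ((Scheme.ΓSpecIso (CommRingCat.of B)).inv.hom :
      B →+* Γ(Spec (CommRingCat.of B), ⊤)).comp (gaHom x) := by
    rw [comp_gaHom]; rfl
  rw [h]
  have h2 : CommRingCat.ofHom (((Scheme.ΓSpecIso (CommRingCat.of B)).inv.hom :
      B →+* Γ(Spec (CommRingCat.of B), ⊤)).comp (gaHom x)) =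
      CommRingCat.ofHom (gaHom x) ≫ (Scheme.ΓSpecIso (CommRingCat.of B)).inv := rfl
  rw [h2, Spec.map_comp]
  change (Spec (CommRingCat.of B)).toSpecΓ ≫ Spec.map (Scheme.ΓSpecIso (CommRingCat.of B)).inv ≫ _ = _
  rw [← Category.assoc, toSpecΓ_SpecMap_ΓSpecIso_inv, Category.id_comp]

/-- `Spec R[X]` is the base change of `Ga S` -/
lemma isPullback_ga : IsPullback (gaPt (tB s R[X]) (fnOf s (X : R[X]))).left
    (Spec.map (CommRingCat.ofHom (algebraMap R R[X]))) (Red.Ga S).hom s := by
  have hr : IsPullback (pullback.fst (Red.GaZ.{u}).hom (specULiftZIsTerminal.from S)) (Red.Ga S).hom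
      (Red.GaZ.{u}).hom (specULiftZIsTerminal.from S) := IsPullback.of_hasPullback _ _
  refine IsPullback.of_right ?_ (Over.w (gaPt (tB s R[X]) (fnOf s (X : R[X])))) hr
  rw [gaPt_left_fst]
  have h := specULiftZIsTerminal.hom_ext (s ≫ specULiftZIsTerminal.from S)
    (Spec.map (CommRingCat.ofHom ((Int.castRingHom R).comp
      (ULift.ringEquiv : ULift.{u} ℤ ≃+* ℤ).toRingHom)))
  rw [h]
  exact isPullback_SpecMap_of_isPushout _ _ _ _ (isPushout_gen R _)

end Aff

section Line

variable {S Y : Scheme.{u}} (g : Y ⟶ S)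

/-- The coordinate on `Y × G_a`. -/
noncomputable def coord : Γ(pullback g (Red.Ga S).hom, ⊤) :=
  (pullback.snd g (Red.Ga S).hom).appTop (Red.gaFn (𝟙 (Red.Ga S)))

/-- The zero section of `Y × G_a`. -/
noncomputable def zeroSec : Y ⟶ pullback g (Red.Ga S).hom :=
  pullback.lift (𝟙 Y) (gaPt (Over.mk g) 0).left (by
    rw [Category.id_comp]; exact (Over.w (gaPt (Over.mk g) 0)).symm)

theorem zeroSec_coord : (zeroSec g).appTop (coord g) = 0 := by
  have h1 : (pullback.snd g (Red.Ga S).hom).appTop ≫ (zeroSec g).appTop = (gaPt (Over.mk g) 0).left.appTop := by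
    rw [← Scheme.Hom.comp_appTop, zeroSec, pullback.lift_snd]
  have h2 := congr($(h1) (Red.gaFn (𝟙 (Red.Ga S))))
  refine h2.trans ?_
  rw [← gaFn_comp, Category.comp_id, gaFn_gaPt]

variable {U : Y.Opens} (hU : IsAffineOpen U)

/-- The chart `Spec A[X] ⟶ Y × G_a` over the affine open `U = Spec A`. -/
noncomputable def chart : Spec (CommRingCat.of (Γ(Y, U) : Type u)[X]) ⟶ pullback g (Red.Ga S).hom :=
  pullback.lift (Spec.map (CommRingCat.ofHom (algebraMap Γ(Y, U) (Γ(Y, U) : Type u)[X])) ≫ hU.fromSpec)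
    (gaPt (tB (hU.fromSpec ≫ g) (Γ(Y, U) : Type u)[X]) (fnOf (hU.fromSpec ≫ g) (X : (Γ(Y, U) : Type u)[X]))).left
    (by
      rw [Category.assoc]
      exact (Over.w (gaPt (tB (hU.fromSpec ≫ g) (Γ(Y, U) : Type u)[X]) _)).symm)

theorem isPullback_chart : IsPullback (chart g hU)
    (Spec.map (CommRingCat.ofHom (algebraMap Γ(Y, U) (Γ(Y, U) : Type u)[X]))) (pullback.fst g (Red.Ga S).hom)
    hU.fromSpec := by
  refine IsPullback.of_right ?_ (by rw [chart, pullback.lift_fst])
    (IsPullback.of_hasPullback g (Red.Ga S).hom).flip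
  rw [chart, pullback.lift_snd]
  exact isPullback_ga (hU.fromSpec ≫ g)

theorem isOpenImmersion_chart : IsOpenImmersion (chart g hU) :=
  MorphismProperty.of_isPullback (isPullback_chart g hU).flip inferInstance

theorem opensRange_chart [IsOpenImmersion (chart g hU)] :
    (chart g hU).opensRange = pullback.fst g (Red.Ga S).hom ⁻¹ᵁ U := by
  ext x
  constructor
  · rintro ⟨y, rfl⟩
    change pullback.fst g (Red.Ga S).hom (chart g hU y) ∈ U
    rw [← Scheme.Hom.comp_apply, (isPullback_chart g hU).w, Scheme.Hom.comp_apply]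
    have := hU.range_fromSpec
    exact this.le ⟨_, rfl⟩
  · intro hx
    have hx' : pullback.fst g (Red.Ga S).hom x ∈ Set.range hU.fromSpec := by
      rw [hU.range_fromSpec]; exact hx
    obtain ⟨a, ha⟩ := hx'
    obtain ⟨z, hz1, -⟩ := Scheme.Pullback.exists_preimage_pullback x a ha.symm
    let e := (isPullback_chart g hU).isoPullback
    refine ⟨e.inv z, ?_⟩
    rw [← hz1, ← Scheme.Hom.comp_apply, IsPullback.isoPullback_inv_fst]

/-- Functions on the chart. -/
noncomputable def chartFn : Γ(pullback g (Red.Ga S).hom, pullback.fst g (Red.Ga S).hom ⁻¹ᵁ U) ⟶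
    CommRingCat.of (Γ(Y, U) : Type u)[X] :=
  (chart g hU).appLE _ ⊤ (by
    have := isOpenImmersion_chart g hU
    rw [← opensRange_chart g hU]
    exact fun x _ => ⟨x, rfl⟩) ≫ (Scheme.ΓSpecIso _).hom

theorem bijective_chartFn : Function.Bijective (chartFn g hU) := by
  have h1 := isOpenImmersion_chart g hU
  have h2 : IsIso ((chart g hU).app (pullback.fst g (Red.Ga S).hom ⁻¹ᵁ U)) :=
    Scheme.Hom.isIso_app _ _ (opensRange_chart g hU).ge
  have h3 : (⊤ : (Spec (CommRingCat.of (Γ(Y, U) : Type u)[X])).Opens) =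
      chart g hU ⁻¹ᵁ (pullback.fst g (Red.Ga S).hom ⁻¹ᵁ U) := by
    rw [← opensRange_chart g hU]
    ext x
    simp
  have h4 : IsIso (chartFn g hU) := by
    rw [chartFn, Scheme.Hom.appLE]
    have : IsIso (homOfLE h3.le) := ⟨homOfLE h3.ge, Subsingleton.elim _ _, Subsingleton.elim _ _⟩
    infer_instance
  exact ConcreteCategory.bijective_of_isIso (chartFn g hU)

theorem chartFn_app (a : Γ(Y, U)) :
    chartFn g hU ((pullback.fst g (Red.Ga S).hom).app U a) = C a := by
  have h1 : (pullback.fst g (Red.Ga S).hom).app U ≫ chartFn g hU =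
      CommRingCat.ofHom (algebraMap Γ(Y, U) (Γ(Y, U) : Type u)[X]) := by
    rw [chartFn, Scheme.Hom.app_eq_appLE, Scheme.Hom.appLE_comp_appLE_assoc]
    have key : ∀ {A B : Scheme.{u}} (f f' : A ⟶ B) (h : f = f') (V : B.Opens) (W : A.Opens)
        (e : W ≤ f ⁻¹ᵁ V) (e' : W ≤ f' ⁻¹ᵁ V), f.appLE V W e = f'.appLE V W e' := by
      rintro A B f _ rfl V W e e'; rfl
    have he : (⊤ : (Spec (CommRingCat.of (Γ(Y, U) : Type u)[X])).Opens) ≤
        (Spec.map (CommRingCat.ofHom (algebraMap Γ(Y, U) (Γ(Y, U) : Type u)[X])) ≫ hU.fromSpec) ⁻¹ᵁ U := by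
      rw [Scheme.Hom.comp_preimage, hU.fromSpec_preimage_self]
      exact le_rfl
    have he' : (⊤ : (Spec (CommRingCat.of (Γ(Y, U) : Type u)[X])).Opens) ≤
        (Spec.map (CommRingCat.ofHom (algebraMap Γ(Y, U) (Γ(Y, U) : Type u)[X]))) ⁻¹ᵁ (hU.fromSpec ⁻¹ᵁ U) := by
      rw [hU.fromSpec_preimage_self]
      exact le_rfl
    have h6 : (Spec.map (CommRingCat.ofHom (algebraMap Γ(Y, U) (Γ(Y, U) : Type u)[X])) ≫ hU.fromSpec).appLE
        U ⊤ he = hU.fromSpec.app U ≫
        (Spec.map (CommRingCat.ofHom (algebraMap Γ(Y, U) (Γ(Y, U) : Type u)[X]))).appLE (hU.fromSpec ⁻¹ᵁ U) ⊤ he' :=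
      Scheme.Hom.comp_appLE _ _ _ _ _
    rw [key _ _ (isPullback_chart g hU).w U ⊤ _ he, h6, hU.fromSpec_app_self, Category.assoc, Category.assoc,
      Scheme.Hom.map_appLE_assoc]
    have h3 : (Spec.map (CommRingCat.ofHom (algebraMap Γ(Y, U) (Γ(Y, U) : Type u)[X]))).appLE ⊤ ⊤ le_top =
        (Spec.map (CommRingCat.ofHom (algebraMap Γ(Y, U) (Γ(Y, U) : Type u)[X]))).appTop := by
      rw [Scheme.Hom.appTop, Scheme.Hom.app_eq_appLE]
      rfl
    have h4 := Scheme.ΓSpecIso_inv_naturality (CommRingCat.ofHom (algebraMap Γ(Y, U) (Γ(Y, U) : Type u)[X]))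
    have h5 : (Scheme.ΓSpecIso Γ(Y, U)).inv ≫
        (Spec.map (CommRingCat.ofHom (algebraMap Γ(Y, U) (Γ(Y, U) : Type u)[X]))).appLE ⊤ ⊤ le_top ≫
        (Scheme.ΓSpecIso (CommRingCat.of (Γ(Y, U) : Type u)[X])).hom =
        CommRingCat.ofHom (algebraMap Γ(Y, U) (Γ(Y, U) : Type u)[X]) := by
      rw [h3, ← Category.assoc]
      refine (congrArg (fun t => t ≫ (Scheme.ΓSpecIso (CommRingCat.of (Γ(Y, U) : Type u)[X])).hom) h4.symm).trans ?_
      rw [Category.assoc, Iso.inv_hom_id, Category.comp_id]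
    exact h5
  exact congr($(h1) a)

theorem chartFn_coord : chartFn g hU (ores le_top (coord g)) = X := by
  have h1 : (pullback g (Red.Ga S).hom).presheaf.map
      (homOfLE (le_top : pullback.fst g (Red.Ga S).hom ⁻¹ᵁ U ≤ ⊤)).op ≫ chartFn g hU =
      (chart g hU).appTop ≫ (Scheme.ΓSpecIso _).hom := by
    rw [chartFn, Scheme.Hom.map_appLE_assoc, Scheme.Hom.appTop, Scheme.Hom.app_eq_appLE]
    rfl
  have h2 : (pullback.snd g (Red.Ga S).hom).appTop ≫ (chart g hU).appTop =
      (gaPt (tB (hU.fromSpec ≫ g) (Γ(Y, U) : Type u)[X])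
        (fnOf (hU.fromSpec ≫ g) (X : (Γ(Y, U) : Type u)[X]))).left.appTop := by
    rw [← Scheme.Hom.comp_appTop, chart, pullback.lift_snd]
  have h3 := congr($(h1) (coord g))
  have h4 : (chart g hU).appTop (coord g) = fnOf (hU.fromSpec ≫ g) (X : (Γ(Y, U) : Type u)[X]) := by
    have h5 := congr($(h2) (Red.gaFn (𝟙 (Red.Ga S))))
    refine h5.trans ?_
    rw [← gaFn_comp, Category.comp_id, gaFn_gaPt]
  refine h3.trans ?_
  change (Scheme.ΓSpecIso _).hom ((chart g hU).appTop (coord g)) = X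
  rw [h4, fnOf]
  exact congr($((Scheme.ΓSpecIso (CommRingCat.of (Γ(Y, U) : Type u)[X])).inv_hom_id) X)

theorem isLine : IsLine (pullback.fst g (Red.Ga S).hom) (zeroSec g) (coord g) where
  sec := by rw [zeroSec, pullback.lift_fst]
  zero := zeroSec_coord g
  affine := fun U hU => by
    have h1 := isOpenImmersion_chart g hU
    rw [← opensRange_chart g hU]
    exact isAffineOpen_opensRange _
  bij := fun U hU => by
    rw [← (bijective_chartFn g hU).of_comp_iff']
    have h1 : (chartFn g hU).hom.comp (Polynomial.eval₂RingHom ((pullback.fst g (Red.Ga S).hom).app U).hom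
        (ores le_top (coord g))) = RingHom.id _ := by
      apply Polynomial.ringHom_ext
      · intro a
        simp only [RingHom.comp_apply, Polynomial.coe_eval₂RingHom, Polynomial.eval₂_C, RingHom.id_apply]
        exact chartFn_app g hU a
      · simp only [RingHom.comp_apply, Polynomial.coe_eval₂RingHom, Polynomial.eval₂_X, RingHom.id_apply]
        exact chartFn_coord g hU
    have h2 : (chartFn g hU) ∘ (Polynomial.eval₂RingHom ((pullback.fst g (Red.Ga S).hom).app U).hom
        (ores le_top (coord g))) = id := funext fun p => congr($(h1) p)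
    rw [h2]
    exact Function.bijective_id

end Line

end Groth.Agent.Sga7.H598.GaLine
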