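import Groth.Agent.Sga7.H598.SNDef
import Groth.Agent.CurvesB.NodeSch
import Groth.Agent.CurvesC.RegNormal
import Groth.Agent.VarietyA.SmoothReg
import Groth.Agent.CurvesB.NodeSch2

/-!
# The local rings of at-worst-nodal curves are seminormal
-/

set_option autoImplicit false
universe u

open CategoryTheory CategoryTheory.Limits AlgebraicGeometry IsLocalRing

namespace Groth.Agent.Sga7.H598.SNNode

open Groth.Agent.Sga7.H598.SNDef Groth.Agent.CurvesB.NodeRing Groth.Agent.CurvesB.NodeSch

theorem sn_of_isNodeRing {K : Type*} {B : Type*} [Field K] [CommRing B] {φ ψ : B →+* PowerSeries K}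
    (h : IsNodeRing K B φ ψ) : SN B := by
  have hK : SN (PowerSeries K) := SN.of_isIntegrallyClosed _
  intro b c hbc
  obtain ⟨x, hx3, hx2⟩ := hK (φ b) (φ c) (by rw [← map_pow, ← map_pow, hbc])
  obtain ⟨y, hy3, hy2⟩ := hK (ψ b) (ψ c) (by rw [← map_pow, ← map_pow, hbc])
  have hxy : PowerSeries.constantCoeff x = PowerSeries.constantCoeff y := by
    apply eq_of_sq_cube
    · rw [← map_pow, ← map_pow, hx2, hy2, h.const]
    · rw [← map_pow, ← map_pow, hx3, hy3, h.const]
  obtain ⟨a, ha1, ha2⟩ := h.range x y hxy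
  refine ⟨a, h.ext ?_ ?_, h.ext ?_ ?_⟩
  · rw [map_pow, ha1, hx3]
  · rw [map_pow, ha2, hy3]
  · rw [map_pow, ha1, hx2]
  · rw [map_pow, ha2, hy2]

theorem sn_of_isOrdDoublePt {K R : Type u} [Field K] [CommRing R] [Algebra K R]
    [IsLocalRing R] [IsNoetherianRing R] (h : Curv2.IsOrdDoublePt K R) : SN R := by
  obtain ⟨φ, ψ, hN, -, -⟩ := exists_isNodeRing h
  have : Module.FaithfullyFlat R (AdicCompletion (maximalIdeal R) R) :=
    Module.FaithfullyFlat.of_flat_of_isLocalHom
  exact SN.of_faithfullyFlat R (AdicCompletion (maximalIdeal R) R) (sn_of_isNodeRing hN)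

/-- The local ring at a node is seminormal. -/
theorem sn_of_isNode (k : Type u) [Field k] (X : Scheme.{u}) [X.Over (Spec (CommRingCat.of k))]
    [LocallyOfFiniteType (X ↘ Spec (CommRingCat.of k))] (x : X) (hx : Curv2.IsNode k X x) :
    SN (X.presheaf.stalk x) := by
  obtain ⟨-, xb, hxb, h⟩ := hx
  subst hxb
  have hNXK : IsLocallyNoetherian (Curv2.bc k X (AlgebraicClosure k)) :=
    Groth.Agent.CurvesB.NodeSch2.isLocallyNoetherian_of_locallyOfFiniteType (Curv2.bcSnd k X (AlgebraicClosure k))
  have hNX : IsLocallyNoetherian X :=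
    Groth.Agent.CurvesB.NodeSch2.isLocallyNoetherian_of_locallyOfFiniteType (X ↘ (Spec (CommRingCat.of k)))
  let iO : (Curv2.bc k X (AlgebraicClosure k)).Over (Spec (CommRingCat.of (AlgebraicClosure k))) :=
    ⟨Curv2.bcSnd k X (AlgebraicClosure k)⟩
  let iKO : Algebra (AlgebraicClosure k)
      ((Curv2.bc k X (AlgebraicClosure k)).presheaf.stalk xb) :=
    Curv2.stalkAlgebra (AlgebraicClosure k) (Curv2.bc k X (AlgebraicClosure k)) _
  let iA : Algebra (X.presheaf.stalk (Curv2.bcFst k X (AlgebraicClosure k) xb))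
      ((Curv2.bc k X (AlgebraicClosure k)).presheaf.stalk xb) :=
    ((Curv2.bcFst k X (AlgebraicClosure k)).stalkMap _).hom.toAlgebra
  have : IsLocalHom (algebraMap (X.presheaf.stalk (Curv2.bcFst k X (AlgebraicClosure k) xb))
      ((Curv2.bc k X (AlgebraicClosure k)).presheaf.stalk xb)) :=
    inferInstanceAs (IsLocalHom ((Curv2.bcFst k X (AlgebraicClosure k)).stalkMap _).hom)
  have : Module.Flat (X.presheaf.stalk (Curv2.bcFst k X (AlgebraicClosure k) xb))
      ((Curv2.bc k X (AlgebraicClosure k)).presheaf.stalk xb) :=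
    Flat.stalkMap (Curv2.bcFst k X (AlgebraicClosure k)) _
  have : Module.FaithfullyFlat (X.presheaf.stalk (Curv2.bcFst k X (AlgebraicClosure k) xb))
      ((Curv2.bc k X (AlgebraicClosure k)).presheaf.stalk xb) :=
    Module.FaithfullyFlat.of_flat_of_isLocalHom
  exact SN.of_faithfullyFlat _ ((Curv2.bc k X (AlgebraicClosure k)).presheaf.stalk xb)
    (sn_of_isOrdDoublePt h)

theorem sn_of_isRegularLocalRing (A : Type u) [CommRing A] [IsRegularLocalRing A] : SN A := by
  have h1 : IsDomain A := Groth.Agent.CalgA.RegBasic.isDomain _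
  have h2 : IsIntegrallyClosed A := Groth.Agent.CurvesC.RegNormal.isIntegrallyClosed _
  exact SN.of_isIntegrallyClosed _

/-- Smooth points. -/
theorem sn_of_mem_smoothLocus (k : Type u) [Field k] (X : Scheme.{u})
    (g : X ⟶ Spec (CommRingCat.of k)) [LocallyOfFinitePresentation g] (x : X)
    (hx : x ∈ g.smoothLocus) : SN (X.presheaf.stalk x) := by
  obtain ⟨B, _, _, ι, p, _, h, rfl⟩ := Groth.Agent.VarietyA.SmoothReg.exists_chart_k g x
  have := Groth.Agent.VarietyA.SmoothReg.finiteType_of_chart g ι h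
  rw [Groth.Agent.VarietyA.SmoothReg.mem_smoothLocus_iff_chart g ι h] at hx
  have h1 := Groth.Agent.CalgC.RegSmooth.isRegularLocalRing_of_isSmoothAt (k := k) p.asIdeal
  exact (sn_of_isRegularLocalRing _).of_ringEquiv (Groth.Agent.VarietyA.SmoothReg.chartStalkEquiv ι p).symm

theorem sn_of_atWorstNodal (k : Type u) [Field k] (X : Scheme.{u}) [X.Over (Spec (CommRingCat.of k))]
    [LocallyOfFinitePresentation (X ↘ Spec (CommRingCat.of k))] (h : Curv2.AtWorstNodal k X) (x : X)
    (hx : IsClosed ({x} : Set X)) : SN (X.presheaf.stalk x) := by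
  rcases h x hx with ⟨U, hxU, hU⟩ | hn
  · exact sn_of_mem_smoothLocus k X (X ↘ Spec (CommRingCat.of k)) x
      (Groth.Agent.VarietyA.SmoothLocusSch.le_smoothLocus _ U hxU)
  · exact sn_of_isNode k X x hn

lemma isIso_fromSpecResidueField {k : Type u} [Field k] (s : Spec (CommRingCat.of k)) :
    IsIso ((Spec (CommRingCat.of k)).fromSpecResidueField s) := by
  have hsub : Subsingleton (Spec (CommRingCat.of k)) :=
    inferInstanceAs (Subsingleton (PrimeSpectrum k))
  have hr : Set.range ((Spec (CommRingCat.of k)).fromSpecResidueField s) = Set.univ := by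
    rw [Scheme.range_fromSpecResidueField]
    ext x
    simp only [Set.mem_singleton_iff, Set.mem_univ, iff_true]
    exact Subsingleton.elim _ _
  have h1 : IsClosedImmersion ((Spec (CommRingCat.of k)).fromSpecResidueField s) :=
    IsClosedImmersion.of_isPreimmersion _ (by rw [hr]; exact isClosed_univ)
  have h2 : Surjective ((Spec (CommRingCat.of k)).fromSpecResidueField s) :=
    ⟨Set.range_eq_univ.1 hr⟩
  exact isIso_of_isClosedImmersion_of_surjective _

/-- The local rings of the fibres of a nodal family at closed points are seminormal. -/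
theorem sn_stalk_fiber {X S : Scheme.{u}} (f : X ⟶ S) (h : Curv2.IsNodalFamily f) (s : S) (x : f.fiber s)
    (hx : IsClosed ({x} : Set (f.fiber s))) : SN ((f.fiber s).presheaf.stalk x) := by
  obtain ⟨-, h2, h3⟩ := h
  let _ : (f.fiber s).Over (Spec (CommRingCat.of (S.residueField s))) := ⟨f.fiberToSpecResidueField s⟩
  have : LocallyOfFinitePresentation ((f.fiber s) ↘ Spec (CommRingCat.of (S.residueField s))) :=
    MorphismProperty.pullback_snd _ _ h2
  exact sn_of_atWorstNodal (S.residueField s) (f.fiber s) (h3 s).2 x hx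

theorem sn_stalk_fiberι (k : Type u) [Field k] (Y : Scheme.{u}) (g : Y ⟶ Spec (CommRingCat.of k))
    (s : Spec (CommRingCat.of k)) (x : g.fiber s) (h : SN ((g.fiber s).presheaf.stalk x)) :
    SN (Y.presheaf.stalk (g.fiberι s x)) := by
  have h1 := isIso_fromSpecResidueField s
  have h2 : IsIso (g.fiberι s) := (IsPullback.of_hasPullback g _).isIso_fst_of_isIso
  exact h.of_ringEquiv (asIso ((g.fiberι s).stalkMap x)).commRingCatIsoToRingEquiv.symm

theorem sn_stalk (k : Type u) [Field k] (Y : Scheme.{u}) (g : Y ⟶ Spec (CommRingCat.of k))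
    (h : Curv2.IsNodalFamily g) (x : Y) (hx : IsClosed ({x} : Set Y)) : SN (Y.presheaf.stalk x) := by
  have h3 : IsClosed ({g.asFiber x} : Set (g.fiber (g x))) := by
    have : ({g.asFiber x} : Set (g.fiber (g x))) = (g.fiberι (g x)) ⁻¹' {x} := by
      ext z
      simp only [Set.mem_singleton_iff, Set.mem_preimage]
      constructor
      · rintro rfl; exact g.fiberι_asFiber x
      · intro hz
        exact (g.fiberι (g x)).isEmbedding.injective (hz.trans (g.fiberι_asFiber x).symm)
    rw [this]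
    exact hx.preimage (g.fiberι (g x)).continuous
  have h4 := sn_stalk_fiberι k Y g (g x) (g.asFiber x) (sn_stalk_fiber g h (g x) (g.asFiber x) h3)
  rwa [g.fiberι_asFiber] at h4

/-- The coordinate rings of nodal curves are seminormal. -/
theorem sn_sections (k : Type u) [Field k] (Y : Scheme.{u}) (g : Y ⟶ Spec (CommRingCat.of k))
    (h : Curv2.IsNodalFamily g) (U : Y.Opens) (hU : IsAffineOpen U) : SN Γ(Y, U) := by
  have h2 : LocallyOfFinitePresentation g := h.2.1
  have hJ : JacobsonSpace Y := LocallyOfFiniteType.jacobsonSpace g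
  refine SN.of_localization_maximal _ fun m hm => ?_
  let p : Spec Γ(Y, U) := ⟨m, hm.isPrime⟩
  let x : Y := hU.fromSpec p
  have hxU : x ∈ U := by
    have := hU.range_fromSpec
    exact this.le ⟨p, rfl⟩
  have hp : IsClosed ({p} : Set (Spec Γ(Y, U))) := (PrimeSpectrum.isClosed_singleton_iff_isMaximal p).mpr hm
  have hx : IsClosed ({x} : Set Y) := by
    have h1 := hU.fromSpec.isOpenEmbedding.preimage_closedPoints
    have h3 : p ∈ hU.fromSpec ⁻¹' (closedPoints Y) := by
      rw [h1]; exact hp
    exact h3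
  have h3 := sn_stalk k Y g h x hx
  let _ := TopCat.Presheaf.algebra_section_stalk Y.presheaf (⟨x, hxU⟩ : U)
  have h4 : IsLocalization.AtPrime (Y.presheaf.stalk x) (hU.primeIdealOf ⟨x, hxU⟩).asIdeal :=
    hU.isLocalization_stalk ⟨x, hxU⟩
  have h5 : hU.primeIdealOf ⟨x, hxU⟩ = p := by
    apply hU.fromSpec.isOpenEmbedding.injective
    exact hU.fromSpec_primeIdealOf ⟨x, hxU⟩
  rw [h5] at h4
  exact h3.of_ringEquiv (IsLocalization.algEquiv m.primeCompl (Y.presheaf.stalk x)
    (Localization.AtPrime m)).toRingEquiv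

end Groth.Agent.Sga7.H598.SNNode
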