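import Groth.Agent.Sga7.H598.GaLine
import Groth.Agent.Sga7.H598.SNNode
import Groth.Agent.Sga7.H732.Hedge

/-!
# Homotopy invariance of the Picard group of nodal curves

`surjective_pull_fst`: for `Y` a locally Noetherian scheme with seminormal affine opens, every class on `Y × G_a` is
pulled back from `Y`.  `c2`: the statement `Hedge.C2`.
-/

set_option autoImplicit false
universe u

open CategoryTheory MonoidalCategory CartesianMonoidalCategory MonObj GrpObj AlgebraicGeometry Limits

namespace Groth.Agent.Sga7.H598.HomInv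

open Groth.Agent.Sga7.H598.SNDef Groth.Agent.Sga7.H598.LineDesc Groth.Agent.Sga7.H598.GaLine
open Groth.Agent.Grpsch.PicGrp

/-- A scheme whose affine opens are seminormal is reduced. -/
theorem isReduced_of_sn {Y : Scheme.{u}} (hSN : ∀ U : Y.Opens, IsAffineOpen U → SN Γ(Y, U)) : IsReduced Y := by
  refine ⟨fun V => ?_⟩
  rw [isReduced_iff_pow_one_lt 2 one_lt_two]
  intro a ha
  have h1 : ∀ y : V, ∃ U : Y.Opens, y.1 ∈ U ∧ U ≤ V ∧ IsAffineOpen U := by
    intro y
    obtain ⟨U, hU, hy, hUV⟩ := exists_affine_nhds y.2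
    exact ⟨U, hy, hUV, hU⟩
  choose U hyU hUV hU using h1
  refine Groth.Agent.Fdesc.LocGen.ores_ext U hUV
    (fun y hy => TopologicalSpace.Opens.mem_iSup.mpr ⟨⟨y, hy⟩, hyU ⟨y, hy⟩⟩) fun y => ?_
  rw [map_zero]
  have := (hSN (U y) (hU y)).isReduced
  exact (pow_eq_zero_iff two_ne_zero).mp (by rw [← map_pow, ha, map_zero])

/-- **Homotopy invariance of the Picard group**: seminormal locally Noetherian schemes. -/
theorem surjective_pull_fst {S Y : Scheme.{u}} (g : Y ⟶ S) [IsLocallyNoetherian Y]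
    (hSN : ∀ U : Y.Opens, IsAffineOpen U → SN Γ(Y, U)) :
    Function.Surjective (pull (pullback.fst g (Red.Ga S).hom) : Pic Y → Pic (PicF.XT g (Red.Ga S))) := by
  have hred := isReduced_of_sn hSN
  intro c
  obtain ⟨L, hL, rfl⟩ := exists_mk c
  obtain ⟨M, hM, ⟨e⟩⟩ := (isLine g).exists_descent hSN hL
  refine ⟨mk M hM, ?_⟩
  rw [pull_mk]
  exact mk_congr e

/-- The pullbacks of a class on `Y × G_a` along two sections agree. -/
theorem pull_eq {S Y : Scheme.{u}} (g : Y ⟶ S) [IsLocallyNoetherian Y]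
    (hSN : ∀ U : Y.Opens, IsAffineOpen U → SN Γ(Y, U)) (c : Pic (PicF.XT g (Red.Ga S))) {T : Over S}
    (t t' : T ⟶ Red.Ga S) : pull (PicF.XTmap g t) c = pull (PicF.XTmap g t') c := by
  obtain ⟨d, rfl⟩ := surjective_pull_fst g hSN c
  have h : ∀ t : T ⟶ Red.Ga S, PicF.XTmap g t ≫ pullback.fst g (Red.Ga S).hom = pullback.fst g T.hom := by
    intro t
    exact (pullback.lift_fst _ _ _).trans (Category.comp_id _)
  rw [← pull_comp, ← pull_comp, h, h]

/-- (C2) of the classical route to potential semistable reduction. -/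
theorem c2 : Groth.Agent.Sga7.H732.Hedge.C2.{u} := by
  intro k _ _ Y g _ h c t t'
  have hN : IsLocallyNoetherian Y := LocallyOfFiniteType.isLocallyNoetherian g
  exact pull_eq g (fun U hU => Groth.Agent.Sga7.H598.SNNode.sn_sections k Y g h U hU) c t t'

end Groth.Agent.Sga7.H598.HomInv
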