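import Groth.Agent.Sga7.H598.PicPoly
import Groth.Agent.Picfga.LineInv
import Groth.Agent.Picfga.LineDescent

/-!
# Invertible modules on relative affine lines over seminormal schemes come from the base
-/

set_option autoImplicit false
universe u

open CategoryTheory CategoryTheory.Limits AlgebraicGeometry Opposite TopologicalSpace

namespace Groth.Agent.Sga7.H598.LineDesc

open Groth.Agent.Fdesc.LocGen Groth.Agent.Sga7.H598.SNDef Groth.Agent.Sga7.H598.PicPoly

variable {Z Y : Scheme.{u}}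

theorem exists_affine_nhds {X : Scheme.{u}} {U : X.Opens} {x : X} (hx : x ∈ U) :
    ∃ V : X.Opens, IsAffineOpen V ∧ x ∈ V ∧ V ≤ U := by
  obtain ⟨_, ⟨V, hV, rfl⟩, hxV, hVU⟩ :=
    X.isBasis_affineOpens.exists_subset_of_mem_open hx U.isOpen
  exact ⟨V, hV, hxV, hVU⟩

/-- `π : Z ⟶ Y` is a relative affine line with coordinate `T` and zero section `s`. -/
structure IsLine (π : Z ⟶ Y) (s : Y ⟶ Z) (T : Γ(Z, ⊤)) : Prop where
  sec : s ≫ π = 𝟙 Y
  zero : s.appTop T = 0
  affine : ∀ U : Y.Opens, IsAffineOpen U → IsAffineOpen (π ⁻¹ᵁ U)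
  bij : ∀ U : Y.Opens, IsAffineOpen U →
    Function.Bijective (Polynomial.eval₂RingHom (π.app U).hom (ores le_top T : Γ(Z, π ⁻¹ᵁ U)))

namespace IsLine

variable {π : Z ⟶ Y} {s : Y ⟶ Z} {T : Γ(Z, ⊤)} (h : IsLine π s T)
include h

theorem le_preimage (U : Y.Opens) : U ≤ s ⁻¹ᵁ π ⁻¹ᵁ U := by
  rw [← Scheme.Hom.comp_preimage, h.sec]
  exact le_rfl

/-- Restriction of functions to the zero section. -/
noncomputable def ev (U : Y.Opens) : Γ(Z, π ⁻¹ᵁ U) →+* Γ(Y, U) := (s.appLE (π ⁻¹ᵁ U) U (h.le_preimage U)).hom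

theorem ev_app (U : Y.Opens) (a : Γ(Y, U)) : h.ev U (π.app U a) = a := by
  have h1 : π.app U ≫ s.appLE (π ⁻¹ᵁ U) U (h.le_preimage U) = 𝟙 _ := by
    rw [Scheme.Hom.app_eq_appLE, Scheme.Hom.appLE_comp_appLE]
    have : ∀ (f : Y ⟶ Y) (hf : f = 𝟙 Y) (e : U ≤ f ⁻¹ᵁ U), f.appLE U U e = 𝟙 _ := by
      rintro f rfl e
      rw [Scheme.Hom.appLE, Scheme.Hom.id_app]
      exact (Category.id_comp (Y.presheaf.map (homOfLE e).op)).trans (Y.presheaf.map_id _)
    exact this _ h.sec _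
  exact congr($(h1).hom a)

theorem injective_app (U : Y.Opens) : Function.Injective (π.app U) :=
  Function.LeftInverse.injective (g := h.ev U) (h.ev_app U)

theorem ev_T (U : Y.Opens) : h.ev U (ores le_top T) = 0 := by
  have h1 : Z.presheaf.map (homOfLE (le_top : π ⁻¹ᵁ U ≤ ⊤)).op ≫ s.appLE (π ⁻¹ᵁ U) U (h.le_preimage U) =
      s.appTop ≫ Y.presheaf.map (homOfLE (le_top : U ≤ ⊤)).op := by
    rw [Scheme.Hom.map_appLE]
    rfl
  have h2 := congr($(h1).hom T)
  refine h2.trans ?_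
  change Y.presheaf.map _ (s.appTop T) = 0
  rw [h.zero, map_zero]

theorem ev_eval₂ (U : Y.Opens) (p : Polynomial Γ(Y, U)) :
    h.ev U (Polynomial.eval₂RingHom (π.app U).hom (ores le_top T : Γ(Z, π ⁻¹ᵁ U)) p) = p.coeff 0 := by
  rw [Polynomial.coe_eval₂RingHom, Polynomial.hom_eval₂, h.ev_T]
  have : (h.ev U).comp (π.app U).hom = RingHom.id _ := RingHom.ext (h.ev_app U)
  rw [this, Polynomial.eval₂_at_zero]
  rfl

/-- Functions over affine opens are polynomials. -/
noncomputable def polyEquiv {U : Y.Opens} (hU : IsAffineOpen U) : Polynomial Γ(Y, U) ≃+* Γ(Z, π ⁻¹ᵁ U) :=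
  RingEquiv.ofBijective _ (h.bij U hU)

theorem coeff_zero_symm {U : Y.Opens} (hU : IsAffineOpen U) (b : Γ(Z, π ⁻¹ᵁ U)) :
    ((h.polyEquiv hU).symm b).coeff 0 = h.ev U b := by
  rw [← h.ev_eval₂]
  exact congrArg (h.ev U) ((h.polyEquiv hU).apply_symm_apply b)

theorem polyEquiv_C {U : Y.Opens} (hU : IsAffineOpen U) (a : Γ(Y, U)) :
    h.polyEquiv hU (Polynomial.C a) = π.app U a := by
  change Polynomial.eval₂RingHom (π.app U).hom (ores le_top T : Γ(Z, π ⁻¹ᵁ U)) (Polynomial.C a) = _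
  simp

omit h in
theorem app_ores {U V : Y.Opens} (hV : V ≤ U) (a : Γ(Y, U)) :
    π.app V (ores hV a) = ores (π.preimage_mono hV) (π.app U a) :=
  ConcreteCategory.congr_hom (π.naturality (homOfLE hV).op) a

/-- Units on the line are constant over reduced schemes. -/
theorem exists_of_isUnit [IsReduced Y] (V : Y.Opens) (u : Γ(Z, π ⁻¹ᵁ V)) (hu : IsUnit u) :
    ∃ c : Γ(Y, V), π.app V c = u := by
  have h1 : ∀ y : V, ∃ U : Y.Opens, y.1 ∈ U ∧ U ≤ V ∧ IsAffineOpen U := by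
    intro y
    obtain ⟨U, hU, hy, hUV⟩ := exists_affine_nhds y.2
    exact ⟨U, hy, hUV, hU⟩
  choose U hyU hUV hU using h1
  have hcov : V ≤ ⨆ y, U y := fun y hy => Opens.mem_iSup.mpr ⟨⟨y, hy⟩, hyU ⟨y, hy⟩⟩
  have h2 : ∀ y : V, ∃ c : Γ(Y, U y), π.app (U y) c = ores (π.preimage_mono (hUV y)) u := by
    intro y
    let p := (h.polyEquiv (hU y)).symm (ores (π.preimage_mono (hUV y)) u)
    have hp : IsUnit p := (hu.map (ores (π.preimage_mono (hUV y)))).map (h.polyEquiv (hU y)).symm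
    have hpC := Groth.Agent.Sga7.H598.Kron.eq_C_of_isUnit p hp
    refine ⟨p.coeff 0, ?_⟩
    rw [← h.polyEquiv_C (hU y), ← hpC]
    exact (h.polyEquiv (hU y)).apply_symm_apply _
  choose c hc using h2
  obtain ⟨t, ht⟩ := ores_glue U hUV hcov c (by
    intro i j
    apply h.injective_app
    rw [app_ores, app_ores, hc, hc, ores_ores, ores_ores])
  refine ⟨t, ?_⟩
  refine ores_ext (fun y => π ⁻¹ᵁ U y) (fun y => π.preimage_mono (hUV y)) ?_ fun y => ?_
  · intro z hz
    obtain ⟨y, hy⟩ := Opens.mem_iSup.mp (hcov hz)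
    exact Opens.mem_iSup.mpr ⟨y, hy⟩
  · rw [← app_ores (hUV y), ht, hc]

/-- Generators of invertible modules on the line over small opens of the base. -/
theorem exists_gen (hSN : ∀ U : Y.Opens, IsAffineOpen U → SN Γ(Y, U)) [IsLocallyNoetherian Y]
    {L : Z.Modules} (hL : PicF.IsInvertible L) (y : Y) :
    ∃ U : Y.Opens, y ∈ U ∧ ∃ e : Γ(L, π ⁻¹ᵁ U), IsGen e := by
  obtain ⟨W, w, hyW, hw⟩ := (isInvertible_iff L).mp hL (s y)
  obtain ⟨U, hU, hyU, hUW⟩ := exists_affine_nhds (U := s ⁻¹ᵁ W) (x := y) hyW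
  let W' : Z.Opens := W ⊓ π ⁻¹ᵁ U
  have hUW' : U ≤ s ⁻¹ᵁ W' := le_inf hUW (h.le_preimage U)
  let w' : Γ(L, W') := res L inf_le_left w
  have hw' : IsGen w' := hw.res inf_le_left
  -- the coordinate on `W'`
  let E : Γ(Z, W') ≃ Γ(L, W') := Equiv.ofBijective _ hw'.bijective
  have hE : ∀ a, E a = a • w' := fun _ => rfl
  let c : Γ(L, π ⁻¹ᵁ U) → Γ(Z, W') := fun p => E.symm (res L inf_le_right p)
  have hc : ∀ p, c p • w' = res L inf_le_right p := fun p => by
    rw [← hE]; exact E.apply_symm_apply _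
  let σ : Γ(Z, W') →+* Γ(Y, U) := (s.appLE W' U hUW').hom
  have hσ : ∀ b : Γ(Z, π ⁻¹ᵁ U), σ (ores inf_le_right b) = h.ev U b := by
    intro b
    have h1 : Z.presheaf.map (homOfLE (inf_le_right : W' ≤ π ⁻¹ᵁ U)).op ≫ s.appLE W' U hUW' =
        s.appLE (π ⁻¹ᵁ U) U (h.le_preimage U) := by
      rw [Scheme.Hom.map_appLE]
    exact congr($(h1).hom b)
  let ψ : Γ(L, π ⁻¹ᵁ U) →+ Γ(Y, U) :=
    { toFun := fun p => σ (c p)
      map_zero' := by
        have : c 0 = 0 := hw'.ext (by rw [hc, map_zero, zero_smul])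
        change σ (c 0) = 0
        rw [this, map_zero]
      map_add' := fun p q => by
        have : c (p + q) = c p + c q := hw'.ext (by rw [add_smul, hc, hc, hc, map_add])
        change σ (c (p + q)) = σ (c p) + σ (c q)
        rw [this, map_add] }
  have hψ : ∀ (b : Γ(Z, π ⁻¹ᵁ U)) (p : Γ(L, π ⁻¹ᵁ U)), ψ (b • p) = h.ev U b * ψ p := by
    intro b p
    have h1 : c (b • p) = ores inf_le_right b * c p :=
      hw'.ext (by rw [hc, res_smul, mul_smul, hc])
    change σ (c (b • p)) = h.ev U b * σ (c p)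
    rw [h1, map_mul, hσ]
  -- surjectivity
  have hsurj : ∃ p₀, ψ p₀ = 1 := by
    have h1 : Ideal.span (Set.range ψ) = ⊤ := by
      rw [← hU.iSup_basicOpen_eq_self_iff]
      apply le_antisymm
      · exact iSup_le fun f => Y.basicOpen_le f.1
      · intro y' hy'
        have hsy' : s y' ∈ π ⁻¹ᵁ U := h.le_preimage U hy'
        obtain ⟨f, n, hf, hn⟩ := Groth.Agent.Picfga.LineAffine.exists_section_gen hL (h.affine U hU) hsy'
        refine Opens.mem_iSup.mpr ⟨⟨ψ n, n, rfl⟩, ?_⟩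
        -- the coordinate of `n` is a unit near `s y'`
        let V : Z.Opens := Z.basicOpen f ⊓ W'
        have hV : s y' ∈ V := ⟨hf, hUW' hy'⟩
        have h2 : IsGen (ores (inf_le_right : V ≤ W') (c n) • res L (inf_le_right : V ≤ W') w') := by
          rw [← res_smul, hc]
          have := hn.res (inf_le_left : V ≤ Z.basicOpen f)
          simpa only [res_res] using this
        have h3 : IsUnit (ores (inf_le_right : V ≤ W') (c n)) := (hw'.res inf_le_right).isUnit_of_smul h2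
        have h4 : s y' ∈ Z.basicOpen (c n) := by
          have h5 : Z.basicOpen (ores (inf_le_right : V ≤ W') (c n)) = V := Scheme.basicOpen_of_isUnit _ h3
          have h6 : Z.basicOpen (ores (inf_le_right : V ≤ W') (c n)) = V ⊓ Z.basicOpen (c n) :=
            Scheme.basicOpen_res _ _ _
          have : s y' ∈ V ⊓ Z.basicOpen (c n) := by rw [← h6, h5]; exact hV
          exact this.2
        have h7 : Y.basicOpen (ψ n) = U ⊓ s ⁻¹ᵁ Z.basicOpen (c n) := by
          rw [Scheme.preimage_basicOpen]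
          exact Scheme.basicOpen_res _ _ _
        change y' ∈ Y.basicOpen (ψ n)
        rw [h7]
        exact ⟨hy', h4⟩
    -- the range of `ψ` is an ideal
    let I : Ideal Γ(Y, U) :=
      { carrier := Set.range ψ
        zero_mem' := ⟨0, map_zero ψ⟩
        add_mem' := by
          rintro _ _ ⟨p, rfl⟩ ⟨q, rfl⟩
          exact ⟨p + q, map_add ψ p q⟩
        smul_mem' := by
          rintro a _ ⟨p, rfl⟩
          exact ⟨π.app U a • p, by rw [hψ, h.ev_app, smul_eq_mul]⟩ }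
    have h2 : (1 : Γ(Y, U)) ∈ I := by
      have : Ideal.span (Set.range ψ) ≤ I := Ideal.span_le.mpr (fun _ hx => hx)
      exact this (h1 ▸ Submodule.mem_top)
    exact h2
  obtain ⟨p₀, hp₀⟩ := hsurj
  have hNoeth : IsNoetherianRing Γ(Y, U) := IsLocallyNoetherian.component_noetherian ⟨U, hU⟩
  have hinv := Groth.Agent.Picfga.LineInv.invertible_sections hL (h.affine U hU)
  obtain ⟨e, -, he⟩ := exists_generator_of_equiv (hSN U hU) (h.polyEquiv hU) ψ
    (fun b p => by rw [hψ, h.coeff_zero_symm]) p₀ hp₀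
  refine ⟨U, hyU, e, isGen_iff_forall_exists.mpr fun z hz => ?_⟩
  obtain ⟨f, n, hf, hn⟩ := Groth.Agent.Picfga.LineAffine.exists_section_gen hL (h.affine U hU) hz
  refine ⟨Z.basicOpen f, Z.basicOpen_le f, hf, ?_⟩
  obtain ⟨a, ha⟩ := hn.exists_eq (res L (Z.basicOpen_le f) e)
  obtain ⟨b, hb⟩ := he.2 n
  rw [ha]
  refine hn.unit_smul ?_
  have h1 : ores (Z.basicOpen_le f) b * a = 1 := by
    apply hn.ext
    rw [mul_smul, ← ha, ← res_smul, one_smul]
    exact congrArg _ hb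
  exact IsUnit.of_mul_eq_one_right _ h1

/-- **Homotopy invariance of the Picard group for seminormal schemes.** -/
theorem exists_descent (hSN : ∀ U : Y.Opens, IsAffineOpen U → SN Γ(Y, U)) [IsLocallyNoetherian Y]
    [IsReduced Y] {L : Z.Modules} (hL : PicF.IsInvertible L) :
    ∃ M : Y.Modules, PicF.IsInvertible M ∧ Nonempty ((Scheme.Modules.pullback π).obj M ≅ L) := by
  choose U hyU e he using h.exists_gen hSN hL
  have hcov : ⨆ y, U y = ⊤ := by
    rw [eq_top_iff]
    exact fun y _ => Opens.mem_iSup.mpr ⟨y, hyU y⟩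
  have hg : ∀ i j, ∃ g : Γ(Y, U i ⊓ U j),
      res L (π.preimage_mono (inf_le_left : U i ⊓ U j ≤ U i)) (e i) =
        π.app (U i ⊓ U j) g • res L (π.preimage_mono inf_le_right) (e j) := by
    intro i j
    obtain ⟨a, ha, hae⟩ := ((he j).res (π.preimage_mono (inf_le_right : U i ⊓ U j ≤ U j))).exists_unit
      ((he i).res (π.preimage_mono (inf_le_left : U i ⊓ U j ≤ U i)))
    obtain ⟨g, hg⟩ := h.exists_of_isUnit _ a ha
    exact ⟨g, by rw [hg]; exact hae⟩
  choose g hg using hg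
  obtain ⟨M, m, φ, hm, -, -⟩ := Groth.Agent.Picfga.LineDescent.exists_descent π U hcov e he
    h.injective_app g hg
  exact ⟨M, Groth.Agent.Picfga.LineDescent.isInvertible_of_gens hcov hm, ⟨φ⟩⟩

end IsLine

end Groth.Agent.Sga7.H598.LineDesc
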