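import Groth.Agent.Sga7.H598.Conduct
import Mathlib.RingTheory.PicardGroup
import Mathlib.RingTheory.Ideal.MinimalPrime.Noetherian
import Mathlib.RingTheory.Finiteness.Projective

/-!
# Invertible modules over polynomial rings over seminormal rings

`exists_generator`: let `A` be a Noetherian seminormal ring, `P` an invertible `A[X]`-module whose
reduction modulo `X` is trivialized by `ψ`.  Then `P` has a generator `e` with `ψ e = 1`.
-/

set_option autoImplicit false

open Polynomial TensorProduct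

namespace Groth.Agent.Sga7.H598.PicPoly

open Groth.Agent.Sga7.H598.SNDef Groth.Agent.Sga7.H598.Kron Groth.Agent.Sga7.H598.Conduct

theorem isIntegral_pi {A : Type*} [CommRing A] {Q : Type*} [Finite Q] (K : Q → Type*) [∀ q, CommRing (K q)]
    [∀ q, Algebra A (K q)] (x : ∀ q, K q) (h : ∀ q, IsIntegral A (x q)) : IsIntegral A x := by
  classical
  have := Fintype.ofFinite Q
  choose P hP hx using h
  refine ⟨∏ q, P q, monic_prod_of_monic _ _ fun q _ => hP q, ?_⟩
  ext q
  rw [← Polynomial.aeval_def]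
  have h1 : (aeval x (∏ q, P q)) q = aeval (x q) (∏ q, P q) :=
    (Polynomial.aeval_algHom_apply (Pi.evalAlgHom A K q) x (∏ q, P q)).symm
  rw [h1, map_prod, Pi.zero_apply]
  exact Finset.prod_eq_zero (Finset.mem_univ q) (by rw [Polynomial.aeval_def]; exact hx q)

section Field

variable {A K : Type*} [CommRing A] [Field K] [Algebra A K]

/-- The rank one matrix attached to a dual basis of an invertible module over `A[X]` factors over `K[X]`. -/
theorem exists_factor {P : Type*} [AddCommGroup P] [Module A[X] P] [Module.Invertible A[X] P] {n : ℕ}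
    (e : Fin n → P) (e' : Fin n → (P →ₗ[A[X]] A[X])) (hee : ∀ p : P, ∑ i, e' i p • e i = p) :
    ∃ f g : Fin n → K[X], (∀ i j, f i * g j = (e' j (e i)).map (algebraMap A K)) ∧ ∑ i, f i * g i = 1 := by
  let _ : Algebra A[X] K[X] := (mapRingHom (algebraMap A K)).toAlgebra
  have hmap : ∀ a : A[X], algebraMap A[X] K[X] a = a.map (algebraMap A K) := fun _ => rfl
  obtain ⟨φ⟩ := (Module.Invertible.free_iff_linearEquiv (R := K[X]) (M := K[X] ⊗[A[X]] P)).mp inferInstance
  let h : K[X] ⊗[A[X]] P := φ.symm 1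
  let E : Fin n → (K[X] ⊗[A[X]] P →ₗ[K[X]] K[X]) := fun j =>
    LinearMap.liftBaseChange K[X] ((Algebra.linearMap A[X] K[X]) ∘ₗ e' j)
  have hE : ∀ j (a : K[X]) (p : P), E j (a ⊗ₜ p) = a * (e' j p).map (algebraMap A K) := by
    intro j a p
    simp only [E, LinearMap.liftBaseChange_tmul, smul_eq_mul]
    rfl
  refine ⟨fun i => φ (1 ⊗ₜ e i), fun j => E j h, fun i j => ?_, ?_⟩
  · have h1 : (1 : K[X]) ⊗ₜ[A[X]] e i = φ (1 ⊗ₜ e i) • h := by
      apply φ.injective
      rw [map_smul, φ.apply_symm_apply, smul_eq_mul, mul_one]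
    have h2 := hE j 1 (e i)
    rw [one_mul] at h2
    rw [← h2]
    conv_rhs => rw [h1]
    rw [map_smul, smul_eq_mul]
  · have h1 : ∀ x : K[X] ⊗[A[X]] P, ∑ i, E i x • ((1 : K[X]) ⊗ₜ[A[X]] e i) = x := by
      intro x
      induction x using TensorProduct.induction_on with
      | zero => simp
      | tmul a p =>
        simp_rw [hE]
        conv_rhs => rw [← hee p, TensorProduct.tmul_sum]
        refine Finset.sum_congr rfl fun i _ => ?_
        rw [← TensorProduct.smul_tmul, TensorProduct.smul_tmul', smul_eq_mul, mul_one, Algebra.smul_def, hmap, mul_comm]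
      | add x y hx hy =>
        simp_rw [map_add, add_smul]
        rw [Finset.sum_add_distrib, hx, hy]
    have h2 := congrArg φ (h1 h)
    rw [map_sum, φ.apply_symm_apply] at h2
    refine Eq.trans (Finset.sum_congr rfl fun i _ => ?_) h2
    rw [map_smul, smul_eq_mul, mul_comm]

/-- Normalization of the constant coefficients. -/
theorem exists_normalized {n : ℕ} (m : Fin n → Fin n → A[X]) (f0 g0 : Fin n → A)
    (hm0 : ∀ i j, (m i j).coeff 0 = f0 i * g0 j) (h10 : ∑ i, f0 i * g0 i = 1)
    (f g : Fin n → K[X]) (hfg : ∀ i j, f i * g j = (m i j).map (algebraMap A K)) (h1 : ∑ i, f i * g i = 1) :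
    ∃ f' g' : Fin n → K[X], (∀ i j, f' i * g' j = (m i j).map (algebraMap A K)) ∧ ∑ i, f' i * g' i = 1 ∧
      (∀ i, (f' i).coeff 0 = algebraMap A K (f0 i)) ∧ (∀ i, (g' i).coeff 0 = algebraMap A K (g0 i)) := by
  have hc : ∀ i j, (f i).coeff 0 * (g j).coeff 0 = algebraMap A K (f0 i) * algebraMap A K (g0 j) := by
    intro i j
    rw [← mul_coeff_zero, hfg, coeff_map, hm0, map_mul]
  have h10' : ∑ i, algebraMap A K (f0 i) * algebraMap A K (g0 i) = 1 := by
    rw [← map_one (algebraMap A K), ← h10, map_sum]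
    exact Finset.sum_congr rfl fun i _ => (map_mul _ _ _).symm
  let u : K := ∑ j, algebraMap A K (g0 j) * (f j).coeff 0
  let v : K := ∑ i, algebraMap A K (f0 i) * (g i).coeff 0
  have hu : ∀ j, u * (g j).coeff 0 = algebraMap A K (g0 j) := by
    intro j
    rw [Finset.sum_mul]
    have : ∀ i ∈ Finset.univ, algebraMap A K (g0 i) * (f i).coeff 0 * (g j).coeff 0 =
        (algebraMap A K (f0 i) * algebraMap A K (g0 i)) * algebraMap A K (g0 j) := by
      intro i _
      rw [mul_assoc, hc]; ring
    rw [Finset.sum_congr rfl this, ← Finset.sum_mul, h10', one_mul]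
  have hv : ∀ i, v * (f i).coeff 0 = algebraMap A K (f0 i) := by
    intro i
    rw [Finset.sum_mul]
    have : ∀ j ∈ Finset.univ, algebraMap A K (f0 j) * (g j).coeff 0 * (f i).coeff 0 =
        (algebraMap A K (f0 j) * algebraMap A K (g0 j)) * algebraMap A K (f0 i) := by
      intro j _
      rw [mul_assoc, mul_comm ((g j).coeff 0), hc]; ring
    rw [Finset.sum_congr rfl this, ← Finset.sum_mul, h10', one_mul]
  have huv : u * v = 1 := by
    rw [show u * v = v * u by ring, Finset.mul_sum]
    have : ∀ j ∈ Finset.univ, v * (algebraMap A K (g0 j) * (f j).coeff 0) =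
        algebraMap A K (f0 j) * algebraMap A K (g0 j) := by
      intro j _
      rw [mul_left_comm, hv]; ring
    rw [Finset.sum_congr rfl this, h10']
  have huv' : (C u : K[X]) * C v = 1 := by rw [← C_mul, huv, C_1]
  have hfg' : ∀ i j, (C v * f i) * (C u * g j) = f i * g j := by
    intro i j
    linear_combination f i * g j * huv'
  refine ⟨fun i => C v * f i, fun j => C u * g j, fun i j => ?_, ?_, fun i => ?_, fun j => ?_⟩
  · rw [hfg', hfg]
  · rw [← h1]
    exact Finset.sum_congr rfl fun i _ => hfg' i i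
  · rw [coeff_C_mul, hv]
  · rw [coeff_C_mul, hu]

end Field

section Main

variable {A : Type*} [CommRing A]

/-- Overring version. -/
theorem exists_mem [IsNoetherianRing A] (hA : SN A) {Q : Type*} [Finite Q] (K : Q → Type*)
    [∀ q, Field (K q)] [∀ q, Algebra A (K q)] (hinj : Function.Injective (algebraMap A (∀ q, K q)))
    {P : Type*} [AddCommGroup P] [Module A[X] P] [Module.Invertible A[X] P] {n : ℕ}
    (e : Fin n → P) (e' : Fin n → (P →ₗ[A[X]] A[X])) (hee : ∀ p : P, ∑ i, e' i p • e i = p)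
    (f0 g0 : Fin n → A) (hm0 : ∀ i j, (e' j (e i)).coeff 0 = f0 i * g0 j) (h10 : ∑ i, f0 i * g0 i = 1) :
    ∃ f g : Fin n → A[X], (∀ i j, f i * g j = e' j (e i)) ∧ ∑ i, f i * g i = 1 ∧
      (∀ i, (f i).coeff 0 = f0 i) ∧ (∀ i, (g i).coeff 0 = g0 i) := by
  have h1 : ∀ q : Q, ∃ f' g' : Fin n → (K q)[X], (∀ i j, f' i * g' j = (e' j (e i)).map (algebraMap A (K q))) ∧
      ∑ i, f' i * g' i = 1 ∧ (∀ i, (f' i).coeff 0 = algebraMap A (K q) (f0 i)) ∧
      (∀ i, (g' i).coeff 0 = algebraMap A (K q) (g0 i)) := by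
    intro q
    obtain ⟨f, g, h1, h2⟩ := exists_factor (K := K q) e e' hee
    exact exists_normalized (fun i j => e' j (e i)) f0 g0 hm0 h10 f g h1 h2
  choose F G hFG hFG1 hF0 hG0 using h1
  let f : Fin n → (∀ q, K q)[X] := fun i => (piEquiv K).symm fun q => F q i
  let g : Fin n → (∀ q, K q)[X] := fun i => (piEquiv K).symm fun q => G q i
  have hev : ∀ (a : (∀ q, K q)[X]) (q : Q), piEquiv K a q = a.map (Pi.evalRingHom K q) := fun _ _ => rfl
  have hfq : ∀ i q, (f i).map (Pi.evalRingHom K q) = F q i := by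
    intro i q
    rw [← hev, RingEquiv.apply_symm_apply]
  have hgq : ∀ i q, (g i).map (Pi.evalRingHom K q) = G q i := by
    intro i q
    rw [← hev, RingEquiv.apply_symm_apply]
  have hfc : ∀ i k q, (f i).coeff k q = (F q i).coeff k := by
    intro i k q
    rw [← hfq, coeff_map]; rfl
  have hgc : ∀ i k q, (g i).coeff k q = (G q i).coeff k := by
    intro i k q
    rw [← hgq, coeff_map]; rfl
  have hext : ∀ a b : (∀ q, K q)[X], (∀ q, a.map (Pi.evalRingHom K q) = b.map (Pi.evalRingHom K q)) → a = b := by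
    intro a b h
    apply (piEquiv K).injective
    funext q
    rw [hev, hev, h]
  have hcomp : ∀ q, (Pi.evalRingHom K q).comp (algebraMap A (∀ q, K q)) = algebraMap A (K q) := fun q => rfl
  have hm : ∀ i j, f i * g j = (e' j (e i)).map (algebraMap A (∀ q, K q)) := by
    intro i j
    refine hext _ _ fun q => ?_
    rw [Polynomial.map_mul, hfq, hgq, hFG, Polynomial.map_map, hcomp]
  have hsum : ∑ i, f i * g i = 1 := by
    refine hext _ _ fun q => ?_
    rw [Polynomial.map_sum, Polynomial.map_one, ← hFG1 q]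
    exact Finset.sum_congr rfl fun i _ => by rw [Polynomial.map_mul, hfq, hgq]
  have hf0 : ∀ i, (f i).coeff 0 = algebraMap A (∀ q, K q) (f0 i) := by
    intro i
    funext q
    rw [hfc, hF0]; rfl
  have hg0 : ∀ i, (g i).coeff 0 = algebraMap A (∀ q, K q) (g0 i) := by
    intro i
    funext q
    rw [hgc, hG0]; rfl
  have hc10 : ∀ q, ∑ i, (F q i).coeff 0 * (G q i).coeff 0 = 1 := by
    intro q
    have := congrArg (fun a : (K q)[X] => a.coeff 0) (hFG1 q)
    simpa only [finsetSum_coeff, mul_coeff_zero, coeff_one_zero] using this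
  have hint : ∀ q i k, IsIntegral A ((F q i).coeff k) := by
    intro q i k
    refine isIntegral_coeff (F q) (G q) Finset.univ (fun i j m => ?_) (fun i => ?_) (hc10 q) i k
    · rw [hFG, coeff_map]; exact isIntegral_algebraMap
    · rw [hF0]; exact isIntegral_algebraMap
  have hint' : ∀ q i k, IsIntegral A ((G q i).coeff k) := by
    intro q i k
    refine isIntegral_coeff (G q) (F q) Finset.univ (fun i j m => ?_) (fun i => ?_) ?_ i k
    · rw [mul_comm, hFG, coeff_map]; exact isIntegral_algebraMap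
    · rw [hG0]; exact isIntegral_algebraMap
    · rw [← hc10 q]; exact Finset.sum_congr rfl fun i _ => mul_comm _ _
  have hmem := coeff_mem_range hinj hA f g (fun i j => e' j (e i)) hm f0 g0 hf0 hg0 hsum
    (fun i k => isIntegral_pi K _ fun q => by rw [hfc]; exact hint q i k)
    (fun i k => isIntegral_pi K _ fun q => by rw [hgc]; exact hint' q i k)
  have hf : ∀ i, ∃ f' : A[X], f'.map (algebraMap A (∀ q, K q)) = f i := by
    intro i
    rw [← Polynomial.mem_lifts, Polynomial.lifts_iff_coeff_lifts]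
    exact fun k => (hmem i k).1
  have hg : ∀ i, ∃ g' : A[X], g'.map (algebraMap A (∀ q, K q)) = g i := by
    intro i
    rw [← Polynomial.mem_lifts, Polynomial.lifts_iff_coeff_lifts]
    exact fun k => (hmem i k).2
  choose f' hf' using hf
  choose g' hg' using hg
  have hmi : Function.Injective (Polynomial.map (algebraMap A (∀ q, K q))) := Polynomial.map_injective _ hinj
  refine ⟨f', g', fun i j => hmi ?_, hmi ?_, fun i => hinj ?_, fun i => hinj ?_⟩
  · rw [Polynomial.map_mul, hf', hg', hm]
  · rw [Polynomial.map_sum, Polynomial.map_one, ← hsum]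
    exact Finset.sum_congr rfl fun i _ => by rw [Polynomial.map_mul, hf', hg']
  · rw [← coeff_map, hf', hf0]
  · rw [← coeff_map, hg', hg0]

/-- **Traverso's theorem.** -/
theorem exists_generator [IsNoetherianRing A] (hA : SN A) {P : Type*} [AddCommGroup P] [Module A[X] P]
    [Module.Invertible A[X] P] (ψ : P →+ A) (hψ : ∀ (a : A[X]) (p : P), ψ (a • p) = a.coeff 0 * ψ p)
    (p₀ : P) (hp₀ : ψ p₀ = 1) :
    ∃ e : P, ψ e = 1 ∧ Function.Bijective (LinearMap.toSpanSingleton A[X] P e) := by
  obtain ⟨n, F, G, -, -, hFG⟩ := Module.Finite.exists_comp_eq_id_of_projective A[X] P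
  let e : Fin n → P := fun i => F (Pi.single i 1)
  let e' : Fin n → (P →ₗ[A[X]] A[X]) := fun i => LinearMap.proj i ∘ₗ G
  have hee : ∀ p : P, ∑ i, e' i p • e i = p := by
    intro p
    have h1 : G p = ∑ i, e' i p • (Pi.single i 1 : Fin n → A[X]) := by
      funext j
      simp [e', Finset.sum_apply, Pi.single_apply]
    have h2 : F (G p) = p := LinearMap.congr_fun hFG p
    rw [h1, map_sum] at h2
    rw [← h2]
    refine Finset.sum_congr rfl fun i _ => ?_
    rw [map_smul, h2]
  let f0 : Fin n → A := fun i => ψ (e i)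
  let g0 : Fin n → A := fun j => (e' j p₀).coeff 0
  have hm0 : ∀ i j, (e' j (e i)).coeff 0 = f0 i * g0 j := by
    intro i j
    have h1 : (e' j (e i)) • p₀ = (e' j p₀) • e i := by
      have h := Module.Invertible.tmul_comm (R := A[X]) (m₁ := e i) (m₂ := p₀)
      have h2 := congrArg (TensorProduct.lift ((LinearMap.lsmul A[X] P) ∘ₗ e' j)) h
      simpa using h2
    have h2 := congrArg ψ h1
    rw [hψ, hψ, hp₀, mul_one] at h2
    rw [h2, mul_comm]
  have h10 : ∑ i, f0 i * g0 i = 1 := by
    rw [← hp₀]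
    conv_rhs => rw [← hee p₀, map_sum]
    refine Finset.sum_congr rfl fun i _ => ?_
    rw [hψ, mul_comm]
  -- the residue fields of the minimal primes
  have hred := hA.isReduced
  let Q := {q : PrimeSpectrum A // q.asIdeal ∈ minimalPrimes A}
  have hQ : Finite Q := by
    have h1 : (minimalPrimes A).Finite := Ideal.finite_minimalPrimes_of_isNoetherianRing A ⊥
    have : Finite (minimalPrimes A) := h1
    exact Finite.of_injective (fun q : Q => (⟨q.1.asIdeal, q.2⟩ : minimalPrimes A)) (by
      rintro ⟨⟨q, hq⟩, hq'⟩ ⟨⟨r, hr⟩, hr'⟩ h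
      simp only [Subtype.mk.injEq] at h
      subst h
      rfl)
  have hinj : Function.Injective (algebraMap A (∀ q : Q, q.1.asIdeal.ResidueField)) := by
    rw [injective_iff_map_eq_zero]
    intro a ha
    have h1 : a ∈ (⊥ : Ideal A).radical := by
      rw [← Ideal.sInf_minimalPrimes, Ideal.mem_sInf]
      intro p hp
      have hpp : p.IsPrime := hp.isPrime
      have := congrFun ha ⟨⟨p, hpp⟩, hp⟩
      exact Ideal.algebraMap_residueField_eq_zero.mp this
    obtain ⟨k, hk⟩ := h1
    exact eq_zero_of_pow_eq_zero (Ideal.mem_bot.mp hk)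
  obtain ⟨f, g, hfg, h1, hf0, hg0⟩ := exists_mem hA (fun q : Q => q.1.asIdeal.ResidueField) hinj e e' hee
    f0 g0 hm0 h10
  -- the generator
  let ε : P := ∑ i, g i • e i
  let ε' : P →ₗ[A[X]] A[X] := ∑ i, f i • e' i
  have he : ∀ j, e j = f j • ε := by
    intro j
    rw [Finset.smul_sum]
    conv_lhs => rw [← hee (e j)]
    refine Finset.sum_congr rfl fun i _ => ?_
    rw [smul_smul, hfg]
  have hεε : ε' ε = 1 := by
    have : ∀ i ∈ Finset.univ, (f i • e' i) ε = f i * g i := by
      intro i _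
      rw [LinearMap.smul_apply, smul_eq_mul]
      congr 1
      simp only [ε, map_sum, map_smul, smul_eq_mul]
      have h2 : ∀ j ∈ Finset.univ, g j * e' i (e j) = (f j * g j) * g i := by
        intro j _
        rw [← hfg]; ring
      rw [Finset.sum_congr rfl h2, ← Finset.sum_mul, h1, one_mul]
    simp only [ε', LinearMap.sum_apply]
    rw [Finset.sum_congr rfl this, h1]
  refine ⟨ε, ?_, ?_, ?_⟩
  · simp only [ε, map_sum, hψ]
    rw [← h10]
    refine Finset.sum_congr rfl fun i _ => ?_
    rw [hg0, mul_comm]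
  · intro a b hab
    have h2 := congrArg ε' hab
    simp only [LinearMap.toSpanSingleton_apply, map_smul, hεε, smul_eq_mul, mul_one] at h2
    exact h2
  · intro p
    refine ⟨∑ i, e' i p * f i, ?_⟩
    rw [LinearMap.toSpanSingleton_apply, Finset.sum_smul]
    conv_rhs => rw [← hee p]
    refine Finset.sum_congr rfl fun i _ => ?_
    rw [mul_smul, ← he]

/-- The same statement for a ring isomorphic to the polynomial ring. -/
theorem exists_generator_of_equiv [IsNoetherianRing A] (hA : SN A) {B : Type*} [CommRing B] (Θ : A[X] ≃+* B)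
    {P : Type*} [AddCommGroup P] [Module B P] [Module.Invertible B P] (ψ : P →+ A)
    (hψ : ∀ (b : B) (p : P), ψ (b • p) = (Θ.symm b).coeff 0 * ψ p) (p₀ : P) (hp₀ : ψ p₀ = 1) :
    ∃ e : P, ψ e = 1 ∧ Function.Bijective (fun b : B => b • e) := by
  let _ : Algebra B A[X] := Θ.symm.toRingHom.toAlgebra
  have halg : ∀ b : B, algebraMap B A[X] b = Θ.symm b := fun _ => rfl
  let e₁ : A[X] ≃ₗ[B] B :=
    { Θ with
      map_smul' := fun b a => by
        simp only [Algebra.smul_def, halg, smul_eq_mul, RingHom.id_apply]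
        change Θ (Θ.symm b * a) = b * Θ a
        rw [map_mul, Θ.apply_symm_apply] }
  let E : A[X] ⊗[B] P ≃ₗ[B] P := (TensorProduct.congr e₁ (LinearEquiv.refl B P)) ≪≫ₗ TensorProduct.lid B P
  have hsm : ∀ (a : A[X]) (x : A[X] ⊗[B] P), a • x = (Θ a : B) • x := by
    intro a x
    rw [← algebraMap_smul A[X] (Θ a) x, halg, Θ.symm_apply_apply]
  obtain ⟨e, he, hb⟩ := exists_generator hA (P := A[X] ⊗[B] P) (ψ.comp E.toAddEquiv.toAddMonoidHom)
    (by
      intro a x
      change ψ (E (a • x)) = a.coeff 0 * ψ (E x)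
      rw [hsm, map_smul, hψ, Θ.symm_apply_apply]) (E.symm p₀) (by
      change ψ (E (E.symm p₀)) = 1
      rw [E.apply_symm_apply, hp₀])
  refine ⟨E e, he, ?_⟩
  have h1 : (fun b : B => b • E e) = E ∘ (LinearMap.toSpanSingleton A[X] (A[X] ⊗[B] P) e) ∘ Θ.symm := by
    funext b
    simp only [Function.comp_apply, LinearMap.toSpanSingleton_apply]
    rw [hsm, Θ.apply_symm_apply, map_smul]
  rw [h1]
  exact E.bijective.comp (hb.comp Θ.symm.bijective)

end Main

end Groth.Agent.Sga7.H598.PicPoly
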