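import Mathlib.RingTheory.IntegralClosure.IntegrallyClosed
import Mathlib.RingTheory.Flat.FaithfullyFlat.Basic
import Mathlib.RingTheory.Flat.FaithfullyFlat.Algebra
import Mathlib.RingTheory.Ideal.AssociatedPrime.Finiteness
import Mathlib.RingTheory.Localization.AtPrime.Basic
import Mathlib.RingTheory.LocalProperties.Basic

/-!
# Seminormal rings

`SN A`: whenever `b ^ 2 = c ^ 3` in `A` there is `a` with `a ^ 3 = b` and `a ^ 2 = c`.
-/

set_option autoImplicit false

namespace Groth.Agent.Sga7.H598.SNDef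

/-- Seminormal rings (Swan's definition). -/
def SN (A : Type*) [CommRing A] : Prop := ∀ b c : A, b ^ 2 = c ^ 3 → ∃ a : A, a ^ 3 = b ∧ a ^ 2 = c

theorem SN.isReduced {A : Type*} [CommRing A] (h : SN A) : IsReduced A := by
  rw [isReduced_iff_pow_one_lt 2 one_lt_two]
  intro x hx
  obtain ⟨a, h3, h2⟩ := h x 0 (by rw [hx]; ring)
  rw [← h3, pow_succ, h2, zero_mul]

theorem eq_of_sq_cube {A : Type*} [CommRing A] [IsReduced A] {a b : A} (h2 : a ^ 2 = b ^ 2)
    (h3 : a ^ 3 = b ^ 3) : a = b := by
  have h : (a - b) ^ 3 = 0 := by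
    linear_combination (-3 * b - 3 * a) * h2 + 4 * h3 - 0 * h2
  exact sub_eq_zero.mp (pow_eq_zero_iff three_ne_zero |>.mp h)

theorem SN.mem_range {A B : Type*} [CommRing A] [CommRing B] [Algebra A B] [IsReduced B]
    (hinj : Function.Injective (algebraMap A B)) (h : SN A) {x : B}
    (h2 : x ^ 2 ∈ (algebraMap A B).range) (h3 : x ^ 3 ∈ (algebraMap A B).range) :
    x ∈ (algebraMap A B).range := by
  obtain ⟨c, hc⟩ := h2
  obtain ⟨b, hb⟩ := h3
  obtain ⟨a, ha3, ha2⟩ := h b c (hinj (by rw [map_pow, map_pow, hb, hc]; ring))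
  refine ⟨a, eq_of_sq_cube ?_ ?_⟩
  · rw [← hc, ← ha2, map_pow]
  · rw [← hb, ← ha3, map_pow]

theorem SN.of_ringEquiv {A B : Type*} [CommRing A] [CommRing B] (e : A ≃+* B) (h : SN A) : SN B := by
  intro b c hbc
  obtain ⟨a, h3, h2⟩ := h (e.symm b) (e.symm c) (by rw [← map_pow, ← map_pow, hbc])
  exact ⟨e a, by rw [← map_pow, h3, e.apply_symm_apply], by rw [← map_pow, h2, e.apply_symm_apply]⟩

theorem SN.of_isIntegrallyClosed' (A K : Type*) [CommRing A] [IsDomain A] [Field K] [Algebra A K]
    [IsFractionRing A K] [IsIntegrallyClosed A] : SN A := by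
  intro b c hbc
  by_cases hc : c = 0
  · subst hc
    have hb : b = 0 := pow_eq_zero_iff two_ne_zero |>.mp (by rw [hbc]; ring)
    subst hb
    exact ⟨0, by ring, by ring⟩
  · have hc' : algebraMap A K c ≠ 0 := (map_ne_zero_iff _ (IsFractionRing.injective A K)).mpr hc
    let x : K := algebraMap A K b / algebraMap A K c
    have hx2 : x ^ 2 = algebraMap A K c := by
      rw [div_pow, ← map_pow, hbc, map_pow]
      field_simp
    have hx3 : x ^ 3 = algebraMap A K b := by
      rw [pow_succ, hx2]
      exact mul_div_cancel₀ _ hc'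
    obtain ⟨a, ha⟩ := IsIntegrallyClosed.exists_algebraMap_eq_of_isIntegral_pow (R := A) (K := K)
      (x := x) (n := 2) (by norm_num) (by rw [hx2]; exact isIntegral_algebraMap)
    refine ⟨a, IsFractionRing.injective A K ?_, IsFractionRing.injective A K ?_⟩
    · rw [map_pow, ha, hx3]
    · rw [map_pow, ha, hx2]

/-- Integrally closed domains are seminormal. -/
theorem SN.of_isIntegrallyClosed (A : Type*) [CommRing A] [IsDomain A] [IsIntegrallyClosed A] : SN A :=
  SN.of_isIntegrallyClosed' A (FractionRing A)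

/-- Seminormality descends along faithfully flat ring maps from a Noetherian ring. -/
theorem SN.of_faithfullyFlat (A B : Type*) [CommRing A] [CommRing B] [Algebra A B] [IsNoetherianRing A]
    [Module.FaithfullyFlat A B] (hB : SN B) : SN A := by
  have hinj : Function.Injective (algebraMap A B) := FaithfulSMul.algebraMap_injective A B
  have hBr : IsReduced B := hB.isReduced
  have hAr : IsReduced A := isReduced_of_injective _ hinj
  intro b c hbc
  obtain ⟨a, ha3, ha2⟩ := hB (algebraMap A B b) (algebraMap A B c) (by rw [← map_pow, ← map_pow, hbc])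
  -- the ideal generated by `c` and its annihilator contains a nonzerodivisor
  let J : Ideal A := Ideal.span {c} ⊔ LinearMap.ker (LinearMap.toSpanSingleton A A c)
  have hJ : ¬ Disjoint (J : Set A) (nonZeroDivisors A) := by
    intro hd
    obtain ⟨x, hx, hx0⟩ := SetLike.exists_of_lt (Ideal.bot_lt_annihilator_of_disjoint_nonZeroDivisors hd)
    rw [Module.mem_annihilator] at hx
    have hx' : ∀ m ∈ J, x * m = 0 := fun m hm => by
      have := hx ⟨m, hm⟩
      exact congrArg Subtype.val this
    have h1 : x ∈ J := by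
      refine Ideal.mem_sup_right ?_
      rw [LinearMap.mem_ker, LinearMap.toSpanSingleton_apply, smul_eq_mul]
      exact hx' c (Ideal.mem_sup_left (Ideal.mem_span_singleton_self c))
    have h2 : x ^ 2 = 0 := by rw [pow_two]; exact hx' x h1
    exact hx0 (by simpa using (pow_eq_zero_iff two_ne_zero).mp h2)
  obtain ⟨d, hdJ, hd⟩ := Set.not_disjoint_iff.mp hJ
  -- `d * a` comes from `A`
  obtain ⟨y, hy, z, hz, hyz⟩ := Submodule.mem_sup.mp hdJ
  obtain ⟨y', rfl⟩ := Ideal.mem_span_singleton'.mp hy
  rw [LinearMap.mem_ker, LinearMap.toSpanSingleton_apply, smul_eq_mul] at hz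
  have hza : algebraMap A B z * a = 0 := by
    have : (algebraMap A B z * a) ^ 2 = 0 := by
      rw [mul_pow, ha2, pow_two, mul_assoc, ← map_mul, hz, map_zero, mul_zero]
    exact (pow_eq_zero_iff two_ne_zero).mp this
  have hda : algebraMap A B d * a = algebraMap A B (y' * b) := by
    rw [← hyz, map_add, add_mul, hza, add_zero, map_mul, map_mul, ← ha2, ← ha3]
    ring
  -- so `y' * b ∈ d B ∩ A = d A`
  have hmem : y' * b ∈ (Ideal.span {d} : Ideal A) := by
    rw [← Ideal.comap_map_eq_self_of_faithfullyFlat (B := B) (Ideal.span {d}), Ideal.mem_comap,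
      Ideal.map_span, Set.image_singleton, Ideal.mem_span_singleton]
    exact ⟨a, hda.symm⟩
  obtain ⟨a', ha'⟩ := Ideal.mem_span_singleton.mp hmem
  have hreg : IsSMulRegular B (algebraMap A B d) := by
    have h1 : IsSMulRegular A d := (isRegular_iff_mem_nonZeroDivisors.mpr hd).left.isSMulRegular
    exact h1.of_flat
  have haa' : a = algebraMap A B a' := hreg (by
    simp only [smul_eq_mul]
    rw [hda, ha', map_mul])
  refine ⟨a', hinj ?_, hinj ?_⟩
  · rw [map_pow, ← haa', ha3]
  · rw [map_pow, ← haa', ha2]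

/-- Seminormality is local. -/
theorem SN.of_localization_maximal (A : Type*) [CommRing A]
    (h : ∀ (m : Ideal A) [m.IsMaximal], SN (Localization.AtPrime m)) : SN A := by
  have hred : IsReduced A := by
    rw [isReduced_iff_pow_one_lt 2 one_lt_two]
    intro x hx
    refine eq_zero_of_localization x (fun m hm => ?_)
    have := (h m).isReduced
    exact (pow_eq_zero_iff two_ne_zero).mp (by rw [← map_pow, hx, map_zero])
  intro b c hbc
  let J : Ideal A :=
    { carrier := {s | ∃ a : A, a ^ 3 = s ^ 3 * b ∧ a ^ 2 = s ^ 2 * c}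
      zero_mem' := ⟨0, by ring, by ring⟩
      add_mem' := by
        rintro s t ⟨x, hx3, hx2⟩ ⟨y, hy3, hy2⟩
        have h1 : x * y = s * t * c := by
          apply eq_of_sq_cube
          · linear_combination y ^ 2 * hx2 + s ^ 2 * c * hy2
          · linear_combination y ^ 3 * hx3 + s ^ 3 * b * hy3 + s ^ 3 * t ^ 3 * hbc
        have h2 : c * y = t * b := by
          apply eq_of_sq_cube
          · linear_combination c ^ 2 * hy2 - t ^ 2 * hbc
          · linear_combination c ^ 3 * hy3 - t ^ 3 * b * hbc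
        have h3 : c * x = s * b := by
          apply eq_of_sq_cube
          · linear_combination c ^ 2 * hx2 - s ^ 2 * hbc
          · linear_combination c ^ 3 * hx3 - s ^ 3 * b * hbc
        refine ⟨x + y, ?_, ?_⟩
        · linear_combination hx3 + hy3 + 3 * y * hx2 + 3 * x * hy2 + 3 * s ^ 2 * h2 + 3 * t ^ 2 * h3
        · linear_combination hx2 + hy2 + 2 * h1
      smul_mem' := by
        rintro r s ⟨x, hx3, hx2⟩
        refine ⟨r * x, ?_, ?_⟩
        · simp only [smul_eq_mul]; linear_combination r ^ 3 * hx3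
        · simp only [smul_eq_mul]; linear_combination r ^ 2 * hx2 }
  have hJ : J = ⊤ := by
    by_contra hne
    obtain ⟨m, hm, hJm⟩ := J.exists_le_maximal hne
    have hr := (h m).isReduced
    obtain ⟨a, ha3, ha2⟩ := h m (algebraMap A _ b) (algebraMap A _ c) (by rw [← map_pow, ← map_pow, hbc])
    obtain ⟨⟨x, s⟩, hxs⟩ := IsLocalization.surj m.primeCompl a
    simp only at hxs
    have e2 : algebraMap A (Localization.AtPrime m) (x ^ 2) = algebraMap A _ ((s : A) ^ 2 * c) := by
      rw [map_pow, ← hxs, map_mul, map_pow, ← ha2]; ring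
    have e3 : algebraMap A (Localization.AtPrime m) (x ^ 3) = algebraMap A _ ((s : A) ^ 3 * b) := by
      rw [map_pow, ← hxs, map_mul, map_pow, ← ha3]; ring
    obtain ⟨u, hu⟩ := (IsLocalization.eq_iff_exists m.primeCompl _).mp e2
    obtain ⟨v, hv⟩ := (IsLocalization.eq_iff_exists m.primeCompl _).mp e3
    have hmem : (u : A) * v * s ∈ J :=
      ⟨u * v * x, by linear_combination (u : A) ^ 3 * (v : A) ^ 2 * hv,
        by linear_combination (u : A) * (v : A) ^ 2 * hu⟩
    exact (mul_mem (mul_mem u.2 v.2) s.2 : (u : A) * v * s ∈ m.primeCompl) (hJm hmem)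
  obtain ⟨a, ha3, ha2⟩ : (1 : A) ∈ J := hJ ▸ Submodule.mem_top
  exact ⟨a, by rw [ha3]; ring, by rw [ha2]; ring⟩

end Groth.Agent.Sga7.H598.SNDef
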